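import Mathlib
import Cfsg.Agent.H438.Fpr.MonE
import Cfsg.Agent.Lib.BenderMaximal
import Cfsg.Agent.H58.Cop.Full
import Cfsg.Agent.S0205
import Cfsg.Agent.H58.Mon.FiveB_m3
import Cfsg.Agent.H58.Cop.MSc_m3
import Cfsg.Agent.H58.Mon.Seventy
import Cfsg.Agent.H626.LD.TwentyNine
import Cfsg.Agent.H715.Mon.Norm_m3
import Cfsg.Agent.FastGrp
import Cfsg.Agent.Prune
set_option linter.all false
prune_inst 0x7ffeeefbaffcaddfffff7e7ffefcddfe39d4dfffacdffb4bffe8ebffefff238259e5f3ad1de0d8fe5ed6c23410a87803f9ffeeffe26bdc7ffffd5ff45ffbee1ff7ffbd0951d588340ffc6ffe9bf077ae7f3fffffffffffffffffffffffffffbeffffffffffff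
open scoped Cfsg.Agent.FastGrp

-- part: H241/Deg/LinMod
section
/-!
# A group `41 : 5` on a small 3-group (helper241; degrees, row `M`)

`commute_of_small` : `R` a normal 3-subgroup of `Y`, `|R| < 3 ^ 40`, `x ^ 41 = 1` and `m x m⁻¹ = x ^ t`, `t` of order 5
modulo 41: then `x` centralizes `R`.
-/

set_option autoImplicit false

namespace Cfsg.Agent.H241.Deg

open Polynomial

theorem all_pow : ∀ s : Fin 41, s.val ^ 5 % 41 = 1 → s.val ≠ 1 → ∀ k : Fin 41, k.val ≠ 0 →
    ∃ i : Fin 8, ∃ j : Fin 5, 3 ^ i.val * s.val ^ j.val % 41 = k.val := by decide +kernel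

/-- the linear case -/
theorem lin {V : Type*} [AddCommGroup V] [Module (ZMod 3) V] [Module.Finite (ZMod 3) V]
    (hd : Module.finrank (ZMod 3) V < 40) {A B B' : Module.End (ZMod 3) V} (hA : A ^ 41 = 1) (hB' : B' * B = 1)
    (hB : B * B' = 1) {t : ℕ} (h : B * A * B' = A ^ t) (ht : t ^ 5 % 41 = 1) (ht1 : t % 41 ≠ 1) : A = 1 := by
  have : Fact (Nat.Prime 3) := ⟨Nat.prime_three⟩
  have : Fact (Nat.Prime 41) := ⟨by norm_num⟩
  by_contra hne
  classical
  let K := AlgebraicClosure (ZMod 3)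
  have hchar : CharP K 3 := by
    have : CharP (ZMod 3) 3 := inferInstance
    exact charP_of_injective_algebraMap (algebraMap (ZMod 3) K).injective 3
  set m := minpoly (ZMod 3) A with hm
  have hint : IsIntegral (ZMod 3) A := Algebra.IsIntegral.isIntegral A
  have hm0 : m ≠ 0 := minpoly.ne_zero hint
  have hdeg : m.natDegree < 40 := by
    refine lt_of_le_of_lt ?_ hd
    rw [← LinearMap.charpoly_natDegree A]
    exact natDegree_le_of_dvd (LinearMap.minpoly_dvd_charpoly A) (LinearMap.charpoly_monic A).ne_zero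
  have h41 : m ∣ X ^ 41 - 1 := by
    refine minpoly.dvd _ _ ?_
    rw [map_sub, map_pow, aeval_X, map_one, hA, sub_self]
  -- `m` divides `m (X ^ t)`
  have hconj : ∀ f : (ZMod 3)[X], B * aeval A f * B' = aeval (A ^ t) f := by
    intro f
    induction f using Polynomial.induction_on' with
    | add p q hp hq => rw [map_add, map_add, mul_add, add_mul, hp, hq]
    | monomial n a =>
      rw [aeval_monomial, aeval_monomial, ← h]
      have h1 : ∀ n : ℕ, (B * A * B') ^ n = B * A ^ n * B' := by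
        intro n
        induction n with
        | zero => rw [pow_zero, pow_zero, mul_one, hB]
        | succ n ih =>
          rw [pow_succ, ih, pow_succ]
          calc B * A ^ n * B' * (B * A * B') = B * A ^ n * (B' * B) * A * B' := by noncomm_ring
            _ = B * (A ^ n * A) * B' := by rw [hB', mul_one]; noncomm_ring
      have h2 : B * (algebraMap (ZMod 3) (Module.End (ZMod 3) V)) a = (algebraMap (ZMod 3) (Module.End (ZMod 3) V)) a * B :=
        (Algebra.commutes a B).symm
      rw [h1, ← mul_assoc, h2]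
      noncomm_ring
  have hexp : m ∣ expand (ZMod 3) t m := by
    refine minpoly.dvd _ _ ?_
    rw [expand_aeval, ← hconj, hm, minpoly.aeval, mul_zero, zero_mul]
  -- the roots
  have r1 : ∀ l : K, aeval l m = 0 → l ^ 41 = 1 := by
    intro l hl
    obtain ⟨q, hq⟩ := h41
    have h1 := congrArg (aeval l) hq
    rw [map_mul, hl, zero_mul, map_sub, map_pow, aeval_X, map_one] at h1
    exact sub_eq_zero.1 h1
  have r3 : ∀ l : K, aeval l m = 0 → aeval (l ^ 3) m = 0 := by
    intro l hl
    rw [← expand_aeval, ZMod.expand_card, map_pow, hl]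
    exact zero_pow three_ne_zero
  have rt : ∀ l : K, aeval l m = 0 → aeval (l ^ t) m = 0 := by
    intro l hl
    obtain ⟨q, hq⟩ := hexp
    rw [← expand_aeval, hq, map_mul, hl, zero_mul]
  have r3' : ∀ (l : K) (i : ℕ), aeval l m = 0 → aeval (l ^ 3 ^ i) m = 0 := by
    intro l i hl
    induction i with
    | zero => rwa [pow_zero, pow_one]
    | succ i ih =>
      rw [pow_succ, pow_mul]
      exact r3 _ ih
  have rt' : ∀ (l : K) (i : ℕ), aeval l m = 0 → aeval (l ^ t ^ i) m = 0 := by
    intro l i hl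
    induction i with
    | zero => rwa [pow_zero, pow_one]
    | succ i ih =>
      rw [pow_succ, pow_mul]
      exact rt _ ih
  -- a root different from 1
  obtain ⟨l, hl, hl1⟩ : ∃ l : K, aeval l m = 0 ∧ l ≠ 1 := by
    by_contra hcon
    push Not at hcon
    apply hne
    have hgs : (X - 1) * ∑ i ∈ Finset.range 41, (X : (ZMod 3)[X]) ^ i = X ^ 41 - 1 := mul_geom_sum X 41
    have hcop : IsCoprime m (∑ i ∈ Finset.range 41, (X : (ZMod 3)[X]) ^ i) := by
      refine (isCoprime_iff_aeval_ne_zero_of_isAlgClosed (ZMod 3) K _ _).2 fun a => ?_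
      by_cases ha : aeval a m = 0
      · right
        rw [hcon a ha, map_sum]
        simp only [map_pow, aeval_X, one_pow, Finset.sum_const, Finset.card_range, nsmul_eq_mul, mul_one]
        intro h1
        have h2 := (CharP.cast_eq_zero_iff K 3 41).1 h1
        norm_num at h2
      · exact Or.inl ha
    have h2 : m ∣ X - 1 := by
      refine hcop.dvd_of_dvd_mul_right ?_
      rw [hgs]
      exact h41
    obtain ⟨q, hq⟩ := h2
    have h3 := congrArg (aeval A) hq
    rw [map_mul, hm, minpoly.aeval, zero_mul, map_sub, aeval_X, map_one] at h3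
    exact sub_eq_zero.1 h3
  have hord : orderOf l = 41 := orderOf_eq_prime (r1 l hl) hl1
  have hmod : ∀ n : ℕ, l ^ n = l ^ (n % 41) := fun n => by rw [← hord, pow_mod_orderOf]
  have hall : ∀ k < 41, k ≠ 0 → aeval (l ^ k) m = 0 := by
    intro k hk hk0
    obtain ⟨i, j, hij⟩ := all_pow ⟨t % 41, Nat.mod_lt _ (by norm_num)⟩ (by
      show (t % 41) ^ 5 % 41 = 1
      rw [← Nat.pow_mod, ht]) ht1 ⟨k, hk⟩ hk0
    have hij' : 3 ^ (i : ℕ) * (t % 41) ^ (j : ℕ) % 41 = k := hij
    have h1 := rt' _ j (r3' l i hl)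
    rw [← pow_mul, hmod, Nat.mul_mod, Nat.pow_mod t, ← Nat.mul_mod, hij'] at h1
    exact h1
  -- forty roots
  have hsub : (Finset.Icc 1 40).image (fun k => l ^ k) ⊆ (m.aroots K).toFinset := by
    intro a ha
    obtain ⟨k, hk, rfl⟩ := Finset.mem_image.1 ha
    rw [Finset.mem_Icc] at hk
    rw [Multiset.mem_toFinset, mem_aroots]
    exact ⟨hm0, hall k (by omega) (by omega)⟩
  have hinj : Set.InjOn (fun k => l ^ k) (Finset.Icc 1 40 : Finset ℕ) := by
    intro a ha b hb hab
    rw [Finset.coe_Icc, Set.mem_Icc] at ha hb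
    exact pow_injOn_Iio_orderOf (by rw [Set.mem_Iio, hord]; omega) (by rw [Set.mem_Iio, hord]; omega) hab
  have h5 := Finset.card_le_card hsub
  rw [Finset.card_image_of_injOn hinj, Nat.card_Icc] at h5
  have h6 := (Multiset.toFinset_card_le (m.aroots K)).trans (card_roots' _)
  rw [natDegree_map] at h6
  omega

open Subgroup

/-- the elementary abelian case -/
theorem commute_of_elem {Y : Type*} [Group Y] [Finite Y] (Z : Subgroup Y) [hZ : Z.Normal] (hc : ∀ a ∈ Z, ∀ b ∈ Z, a * b = b * a)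
    (h3 : ∀ a ∈ Z, a ^ 3 = 1) (hcard : Nat.card Z < 3 ^ 40) {x m : Y} (hx : x ^ 41 = 1) {t : ℕ}
    (hm : m * x * m⁻¹ = x ^ t) (ht : t ^ 5 % 41 = 1) (ht1 : t % 41 ≠ 1) : ∀ r ∈ Z, x * r = r * x := by
  have : Fact (Nat.Prime 3) := ⟨Nat.prime_three⟩
  let _ : CommGroup Z := { (inferInstance : Group Z) with
    mul_comm := fun a b => Subtype.ext (hc a a.2 b b.2) }
  let _ : Module (ZMod 3) (Additive Z) := AddCommGroup.zmodModule (n := 3) fun a => by
    apply Additive.toMul.injective
    rw [toMul_nsmul]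
    exact Subtype.ext (h3 _ (Additive.toMul a).2)
  have hfin : Finite (Additive Z) := inferInstanceAs (Finite Z)
  have hfm : Module.Finite (ZMod 3) (Additive Z) := Module.Finite.of_finite
  let f : Y →* Module.End (ZMod 3) (Additive Z) :=
    { toFun := fun y => (MonoidHom.toAdditive (MulAut.conjNormal y : MulAut Z).toMonoidHom).toZModLinearMap 3
      map_one' := by
        refine LinearMap.ext fun a => ?_
        apply Additive.toMul.injective
        show MulAut.conjNormal (1 : Y) (Additive.toMul a) = Additive.toMul a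
        rw [map_one]
        rfl
      map_mul' := fun y z => by
        refine LinearMap.ext fun a => ?_
        apply Additive.toMul.injective
        show MulAut.conjNormal (y * z : Y) (Additive.toMul a) = MulAut.conjNormal y (MulAut.conjNormal z (Additive.toMul a))
        rw [map_mul]
        rfl }
  have hf : f x = 1 := by
    refine lin (B := f m) (B' := f m⁻¹) ?_ ?_ ?_ ?_ ?_ ht ht1
    · have h1 := Module.natCard_eq_pow_finrank (K := ZMod 3) (V := Additive Z)
      rw [Nat.card_zmod] at h1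
      have h2 : Nat.card (Additive Z) = Nat.card Z := rfl
      rw [h2] at h1
      rw [h1] at hcard
      exact (Nat.pow_lt_pow_iff_right (by norm_num)).1 hcard
    · rw [← map_pow, hx, map_one]
    · rw [← map_mul, inv_mul_cancel, map_one]
    · rw [← map_mul, mul_inv_cancel, map_one]
    · rw [← map_mul, ← map_mul, hm, map_pow]
  intro r hr
  have h1 := congrArg (fun g : Module.End (ZMod 3) (Additive Z) => ((Additive.toMul (g (Additive.ofMul (⟨r, hr⟩ : Z))) : Z) : Y)) hf
  have h2 : x * r * x⁻¹ = r := h1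
  exact mul_inv_eq_iff_eq_mul.1 h2

/-- **The action on a small 3-group.** -/
theorem commute_of_small : ∀ (n : ℕ) {Y : Type*} [Group Y] [Finite Y] (R : Subgroup Y) [R.Normal], Nat.card R ≤ n →
    IsPGroup 3 R → Nat.card R < 3 ^ 40 → ∀ {x m : Y}, x ^ 41 = 1 → ∀ {t : ℕ}, m * x * m⁻¹ = x ^ t → t ^ 5 % 41 = 1 →
    t % 41 ≠ 1 → ∀ r ∈ R, x * r = r * x := by
  have hp : Fact (Nat.Prime 3) := ⟨Nat.prime_three⟩
  intro n
  induction n with
  | zero =>
    intro Y _ _ R _ hn
    exact absurd (Nat.card_pos (α := R)) (by omega)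
  | succ n ih =>
    intro Y _ _ R hR hn hR3 hcard x m hx t hm ht ht1
    by_cases hbot : R = ⊥
    · intro r hr
      rw [hbot, mem_bot] at hr
      rw [hr, mul_one, one_mul]
    -- the subgroup `Z`
    let Z : Subgroup Y :=
      { carrier := {z | z ∈ R ∧ (∀ r ∈ R, z * r = r * z) ∧ z ^ 3 = 1}
        one_mem' := ⟨R.one_mem, fun r _ => by rw [one_mul, mul_one], one_pow 3⟩
        mul_mem' := by
          rintro a b ⟨ha, hac, ha3⟩ ⟨hb, hbc, hb3⟩
          refine ⟨R.mul_mem ha hb, fun r hr => ?_, ?_⟩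
          · rw [mul_assoc, hbc r hr, ← mul_assoc, hac r hr, mul_assoc]
          · rw [(show Commute a b from hac b hb).mul_pow, ha3, hb3, one_mul]
        inv_mem' := by
          rintro a ⟨ha, hac, ha3⟩
          refine ⟨R.inv_mem ha, fun r hr => ?_, by rw [inv_pow, ha3, inv_one]⟩
          exact ((show Commute a r from hac r hr).inv_left).eq }
    have hZR : Z ≤ R := fun z hz => hz.1
    have hZn : Z.Normal := by
      refine ⟨fun z hz g => ⟨hR.conj_mem z hz.1 g, fun r hr => ?_, ?_⟩⟩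
      · have h1 : g⁻¹ * r * g ∈ R := by
          have := hR.conj_mem r hr g⁻¹
          rwa [inv_inv] at this
        have h2 := hz.2.1 _ h1
        calc g * z * g⁻¹ * r = g * (z * (g⁻¹ * r * g)) * g⁻¹ := by group
          _ = g * (g⁻¹ * r * g * z) * g⁻¹ := by rw [h2]
          _ = r * (g * z * g⁻¹) := by group
      · rw [conj_pow, hz.2.2, mul_one, mul_inv_cancel]
    have hZ1 : Z ≠ ⊥ := by
      have hnt : Nontrivial R := (Subgroup.nontrivial_iff_ne_bot R).2 hbot
      have hcn : Nontrivial (center R) := hR3.center_nontrivial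
      have hpc : IsPGroup 3 (center R) := hR3.to_subgroup _
      obtain ⟨k, hk⟩ := IsPGroup.iff_card.1 hpc
      have hk0 : k ≠ 0 := by
        rintro rfl
        rw [pow_zero] at hk
        have := Finite.one_lt_card (α := center R)
        omega
      obtain ⟨y, hy⟩ := exists_prime_orderOf_dvd_card' (G := center R) 3 (by rw [hk]; exact dvd_pow_self 3 hk0)
      intro hZb
      have h1 : ((y : R) : Y) ∈ Z := by
        refine ⟨(y : R).2, fun r hr => ?_, ?_⟩
        · exact (congrArg Subtype.val (Subgroup.mem_center_iff.1 y.2 ⟨r, hr⟩)).symm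
        · have h2 : ((y : R) : Y) ^ 3 = (((y ^ 3 : center R) : R) : Y) := rfl
          rw [h2, ← hy, pow_orderOf_eq_one]
          rfl
      rw [hZb, mem_bot] at h1
      have h3 : y = 1 := Subtype.ext (Subtype.ext h1)
      rw [h3, orderOf_one] at hy
      norm_num at hy
    -- `x` centralizes `Z`
    have hxZ : ∀ z ∈ Z, x * z = z * x :=
      commute_of_elem Z (fun a ha b hb => ha.2.1 b hb.1) (fun a ha => ha.2.2)
        (lt_of_le_of_lt (Nat.le_of_dvd Nat.card_pos (card_dvd_of_le hZR)) hcard) hx hm ht ht1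
    -- the quotient
    let q := QuotientGroup.mk' Z
    have hq : Function.Surjective q := QuotientGroup.mk'_surjective Z
    have hRn : (R.map q).Normal := hR.map q hq
    have hcq : Nat.card (R.map q) * Nat.card Z = Nat.card R := by
      have h1 : Nat.card (R.map q) = Z.relIndex R := by
        rw [← Subgroup.relIndex_ker, QuotientGroup.ker_mk']
      rw [h1, mul_comm]
      have := Subgroup.relIndex_mul_relIndex ⊥ Z R bot_le hZR
      rwa [Subgroup.relIndex_bot_left, Subgroup.relIndex_bot_left] at this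
    have hZc : 1 < Nat.card Z := by
      have := (Subgroup.nontrivial_iff_ne_bot Z).2 hZ1
      exact Finite.one_lt_card
    have hlt : Nat.card (R.map q) < Nat.card R := by
      rw [← hcq]
      have : 0 < Nat.card (R.map q) := Nat.card_pos
      nlinarith
    have hxq := ih (R.map q) (by omega) (hR3.map q) (hlt.trans hcard) (x := q x) (m := q m)
      (by rw [← map_pow, hx, map_one]) (t := t) (by rw [← map_inv, ← map_mul, ← map_mul, hm, map_pow]) ht ht1
    intro r hr
    have h1 := hxq (q r) ⟨r, hr, rfl⟩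
    rw [← map_mul, ← map_mul] at h1
    have h2 : r⁻¹ * (x * r * x⁻¹) ∈ Z := by
      have h3 : q (r⁻¹ * (x * r * x⁻¹)) = 1 := by
        rw [map_mul, map_mul, h1, ← map_mul, ← map_mul]
        have h4 : r⁻¹ * (r * x * x⁻¹) = 1 := by group
        rw [h4, map_one]
      rwa [← MonoidHom.mem_ker, QuotientGroup.ker_mk'] at h3
    set z := r⁻¹ * (x * r * x⁻¹) with hz
    have h3 : x * r * x⁻¹ = r * z := by rw [hz, mul_inv_cancel_left]
    have h4 : ∀ k : ℕ, x ^ k * r * (x ^ k)⁻¹ = r * z ^ k := by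
      intro k
      induction k with
      | zero => simp
      | succ k ihk =>
        have h5 : x * z ^ k = z ^ k * x := ((show Commute x z from hxZ z h2).pow_right k).eq
        calc x ^ (k + 1) * r * (x ^ (k + 1))⁻¹ = x * (x ^ k * r * (x ^ k)⁻¹) * x⁻¹ := by rw [pow_succ']; group
          _ = x * (r * z ^ k) * x⁻¹ := by rw [ihk]
          _ = (x * r * x⁻¹) * (x * z ^ k * x⁻¹) := by group
          _ = (r * z) * (z ^ k * x * x⁻¹) := by rw [h3, h5]
          _ = r * z ^ (k + 1) := by rw [pow_succ']; group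
    have h5 := h4 41
    rw [hx, one_mul, inv_one, mul_one] at h5
    have h6 : z ^ 41 = 1 := by
      have : r * z ^ 41 = r * 1 := by rw [← h5, mul_one]
      exact mul_left_cancel this
    have h7 : z ^ 3 = 1 := h2.2.2
    have h8 : z = 1 := by
      calc z = (z ^ 3) ^ 14 * (z ^ 41)⁻¹ := by group
        _ = 1 := by rw [h6, h7, one_pow, inv_one, mul_one]
    rw [h8, mul_one] at h3
    exact mul_inv_eq_iff_eq_mul.1 h3

end Cfsg.Agent.H241.Deg
end

-- part: H241/Deg/Loc
section
/-!
# Local analysis with an element of order 41 (helper241; degrees, row `M`)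
-/

set_option autoImplicit false

namespace Cfsg.Agent.H241.Deg

open Subgroup Cfsg Cfsg.Agent.H438.Fpr.LemB Cfsg.Agent.H995.CopEngine Cfsg.Agent.Lib
open scoped Pointwise

universe u

theorem centralizer_zpowers {G : Type*} [Group G] (x : G) :
    centralizer ((zpowers x : Subgroup G) : Set G) = centralizer ({x} : Set G) := by
  ext g
  rw [mem_centralizer_iff, mem_centralizer_singleton_iff]
  constructor
  · intro h
    exact (h x (mem_zpowers x)).symm
  · rintro h _ ⟨i, rfl⟩
    exact ((show Commute x g from h.symm).zpow_left i).eq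

/-- the `q`-part of the normalizer of `⟨x⟩` -/
theorem norm_part {X : Type u} [Group X] [Finite X] {p : ℕ} (hp : p.Prime) (h2 : ¬ p ^ 2 ∣ Nat.card X) {x : X}
    (hx : orderOf x = p) (hN : Nice p X) {q k : ℕ} (hq : q.Prime) (hqp : q ≠ p)
    (hc : ∀ i, 1 ≤ i → q ^ i ∣ Nat.card X → ¬ p ∣ q ^ i - 1) (hk : q ^ k ∣ Nat.card X) :
    q ^ k ∣ Nat.card (normalizer ((zpowers x : Subgroup X) : Set X)) := by
  have hpf := Fact.mk hp
  obtain ⟨K, hK, hpK, hPK⟩ := hN
  have hidx : ¬ p ∣ (zpowers x).index := by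
    intro h1
    apply h2
    rw [← (zpowers x).card_mul_index, Nat.card_zpowers, hx, pow_two]
    exact Nat.mul_dvd_mul_left p h1
  have hpg : IsPGroup p (zpowers x) := IsPGroup.of_card (n := 1) (by rw [Nat.card_zpowers, hx, pow_one])
  let P : Sylow p X := hpg.toSylow hidx
  have hPx : (P : Subgroup X) = zpowers x := rfl
  have hT := hPK P
  set T : Subgroup X := (P : Subgroup X) ⊔ K with hTdef
  have hPT : (P : Subgroup X) ≤ T := le_sup_left
  set N : Subgroup X := normalizer ((P : Subgroup X) : Set X) with hNdef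
  -- Frattini
  have hF : N ⊔ K = ⊤ := by
    have h3 := Sylow.normalizer_sup_eq_top (P.subtype hPT)
    have h4 : ((P.subtype hPT : Sylow p T) : Subgroup T).map T.subtype = (P : Subgroup X) := by
      rw [Sylow.coe_subtype, subgroupOf_map_subtype, inf_eq_left.2 hPT]
    rw [h4] at h3
    rw [eq_top_iff, ← h3]
    refine sup_le le_sup_left ?_
    rw [hTdef]
    exact sup_le (le_trans le_normalizer le_sup_left) le_sup_right
  -- the orders
  have e1 : K.index = K.relIndex N := by
    rw [← relIndex_top_right, ← hF, sup_comm, relIndex_sup_left]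
  have e2 : Nat.card X * Nat.card ↥(K ⊓ N) = Nat.card K * Nat.card N := by
    have h5 : Nat.card ↥(K ⊓ N) * K.relIndex N = Nat.card N := by
      have h6 := (K.subgroupOf N).card_mul_index
      rw [← Subgroup.relIndex] at h6
      rw [← h6]
      congr 1
      rw [← card_map_of_injective N.subtype_injective, subgroupOf_map_subtype]
    rw [← K.card_mul_index, e1, ← h5]
    ring
  -- `K ∩ N` centralizes `x`
  have e3 : K ⊓ centralizer ({x} : Set X) ≤ K ⊓ N := by
    refine inf_le_inf_left _ fun g hg => ?_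
    have h3 : centralizer ((zpowers x : Subgroup X) : Set X) ≤ N := by
      rw [hNdef, hPx]
      exact centralizer_le_normalizer _
    refine h3 ?_
    rw [mem_centralizer_iff]
    rintro _ ⟨j, rfl⟩
    exact ((show Commute g x from mem_centralizer_singleton_iff.1 hg).zpow_right j).eq.symm
  have hx1 : x ^ p = 1 := by rw [← hx, pow_orderOf_eq_one]
  -- the `q`-parts
  have hqf := Fact.mk hq
  have v1 : ∀ j, q ^ j ∣ Nat.card K → q ^ j ∣ Nat.card ↥(K ⊓ N) := fun j hj => by
    have h7 := pow_dvd_cent hp K hpK hx1 hq hqp hj (fun i hi h => hc i hi (h.trans (card_subgroup_dvd_card K)))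
    exact h7.trans (card_dvd_of_le e3)
  have c0 : ∀ H : Subgroup X, Nat.card H ≠ 0 := fun H => Nat.card_pos.ne'
  have hX0 : Nat.card X ≠ 0 := Nat.card_pos.ne'
  rw [hq.pow_dvd_iff_le_factorization (c0 _)]
  have h8 := congrArg (fun n => n.factorization q) e2
  simp only [Nat.factorization_mul hX0 (c0 _), Nat.factorization_mul (c0 K) (c0 N), Finsupp.add_apply] at h8
  have h9 := (hq.pow_dvd_iff_le_factorization hX0).1 hk
  have h10 := (hq.pow_dvd_iff_le_factorization (c0 (K ⊓ N))).1 (v1 _ (Nat.ordProj_dvd (Nat.card K) q))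
  rw [← hPx, ← hNdef]
  omega

/-- **An element of order 5 modulo the centralizer.** -/
theorem exists_five {X : Type u} [Group X] [Finite X] (h2 : ¬ 41 ^ 2 ∣ Nat.card X) {x : X}
    (hx : orderOf x = 41) (hN : Nice 41 X) {k : ℕ}
    (hc : ∀ i, 1 ≤ i → 5 ^ i ∣ Nat.card X → ¬ 41 ∣ 5 ^ i - 1) (hk : 5 ^ k ∣ Nat.card X)
    (hk' : ¬ 5 ^ k ∣ Nat.card (centralizer ({x} : Set X))) :
    ∃ (m : X) (t : ℕ), m * x * m⁻¹ = x ^ t ∧ t ^ 5 % 41 = 1 ∧ t % 41 ≠ 1 := by
  have h5f : Fact (Nat.Prime 5) := ⟨Nat.prime_five⟩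
  have hxN := norm_part (by norm_num) h2 hx hN Nat.prime_five (by norm_num) hc hk
  set N := normalizer ((zpowers x : Subgroup X) : Set X) with hNdef
  obtain ⟨Q⟩ : Nonempty (Sylow 5 N) := inferInstance
  have hQc : 5 ^ k ∣ Nat.card (Q : Subgroup N) := by
    rw [Sylow.card_eq_multiplicity]
    exact pow_dvd_pow 5 ((Nat.prime_five.pow_dvd_iff_le_factorization Nat.card_pos.ne').1 hxN)
  have hnle : ¬ (Q : Subgroup N).map N.subtype ≤ centralizer ({x} : Set X) := by
    intro hle
    apply hk'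
    refine (hQc.trans ?_).trans (card_dvd_of_le hle)
    rw [card_map_of_injective N.subtype_injective]
  obtain ⟨_, ⟨g, hgQ, rfl⟩, hgc⟩ := SetLike.not_le_iff_exists.1 hnle
  rw [mem_centralizer_singleton_iff] at hgc
  obtain ⟨j, hj⟩ := Q.2 ⟨g, hgQ⟩
  have hj' : ((g : N) : X) ^ 5 ^ j = 1 := congrArg (fun a : (Q : Subgroup N) => ((a : N) : X)) hj
  have h3 : (g : X) * x * (g : X)⁻¹ ∈ zpowers x := (mem_normalizer_iff.1 g.2 x).1 (mem_zpowers x)
  rw [← mem_powers_iff_mem_zpowers] at h3
  obtain ⟨t, ht⟩ := h3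
  have ht' : (g : X) * x * (g : X)⁻¹ = x ^ t := ht.symm
  have h4 : ∀ n : ℕ, (g : X) ^ n * x * ((g : X) ^ n)⁻¹ = x ^ t ^ n := by
    intro n
    induction n with
    | zero => simp
    | succ n ih =>
      calc (g : X) ^ (n + 1) * x * ((g : X) ^ (n + 1))⁻¹ = g * ((g : X) ^ n * x * ((g : X) ^ n)⁻¹) * (g : X)⁻¹ := by
            rw [pow_succ']; group
        _ = (g * x * (g : X)⁻¹) ^ t ^ n := by rw [ih, conj_pow]
        _ = x ^ t ^ (n + 1) := by rw [ht', ← pow_mul, pow_succ']
  have h5 := h4 (5 ^ j)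
  rw [hj', one_mul, inv_one, mul_one] at h5
  have h6 : t ^ 5 ^ j ≡ 1 [MOD 41] := by
    rw [← hx]
    exact (pow_eq_pow_iff_modEq.1 (by rw [← h5, pow_one])).symm.symm
  have hcop : Nat.Coprime t 41 := by
    by_contra hcon
    have h7 : 41 ∣ t := by
      by_contra h8
      exact hcon (((Nat.Prime.coprime_iff_not_dvd (by norm_num)).2 h8).symm)
    have h9 : t ^ 5 ^ j ≡ 0 [MOD 41] := by
      rw [Nat.modEq_zero_iff_dvd]
      exact h7.trans (dvd_pow_self t (pow_pos (by norm_num) j).ne')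
    have h10 := h9.symm.trans h6
    exact absurd h10 (by decide)
  have h40 : t ^ 40 ≡ 1 [MOD 41] := by
    have := Nat.ModEq.pow_totient hcop
    rwa [Nat.totient_prime (by norm_num)] at this
  have h11 : t ^ 5 ≡ 1 [MOD 41] := by
    have h12 : orderOf (ZMod.unitOfCoprime t hcop) ∣ 5 ^ j := by
      apply orderOf_dvd_of_pow_eq_one
      ext
      rw [Units.val_pow_eq_pow_val, ZMod.coe_unitOfCoprime, Units.val_one, ← Nat.cast_pow, ← Nat.cast_one]
      exact (ZMod.natCast_eq_natCast_iff _ _ _).2 h6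
    have h13 : orderOf (ZMod.unitOfCoprime t hcop) ∣ 40 := by
      apply orderOf_dvd_of_pow_eq_one
      ext
      rw [Units.val_pow_eq_pow_val, ZMod.coe_unitOfCoprime, Units.val_one, ← Nat.cast_pow, ← Nat.cast_one]
      exact (ZMod.natCast_eq_natCast_iff _ _ _).2 h40
    have h14 : orderOf (ZMod.unitOfCoprime t hcop) ∣ 5 := by
      obtain ⟨i, -, hi⟩ := (Nat.dvd_prime_pow Nat.prime_five).1 h12
      rw [hi] at h13 ⊢
      rcases Nat.lt_or_ge i 2 with h15 | h15
      · interval_cases i <;> norm_num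
      · exfalso
        have := (pow_dvd_pow 5 h15).trans h13
        norm_num at this
    have h15 := orderOf_dvd_iff_pow_eq_one.1 h14
    have h16 := congrArg Units.val h15
    rw [Units.val_pow_eq_pow_val, ZMod.coe_unitOfCoprime, Units.val_one, ← Nat.cast_pow, ← Nat.cast_one] at h16
    exact (ZMod.natCast_eq_natCast_iff _ _ _).1 h16
  refine ⟨g, t, ht', h11, fun h17 => hgc ?_⟩
  have h18 : x ^ t = x := by
    have h19 : t ≡ 1 [MOD 41] := h17
    rw [← hx] at h19
    have := pow_eq_pow_iff_modEq.2 h19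
    rwa [pow_one] at this
  rw [h18] at ht'
  exact mul_inv_eq_iff_eq_mul.1 ht'

/-- **`⟨x⟩` is normal.** -/
theorem normal_of_five {X : Type u} [Group X] [Finite X] (hs : Group.IsSolvable X) (h2 : ¬ 41 ^ 2 ∣ Nat.card X)
    (h3 : ¬ 3 ^ 40 ∣ Nat.card X)
    (hc : ∀ q : ℕ, q.Prime → q ≠ 3 → q ≠ 41 → ∀ i, 1 ≤ i → q ^ i ∣ Nat.card X → ¬ 41 ∣ q ^ i - 1)
    {x m : X} (hx : orderOf x = 41) {t : ℕ} (hm : m * x * m⁻¹ = x ^ t) (ht : t ^ 5 % 41 = 1) (ht1 : t % 41 ≠ 1) :
    (zpowers x).Normal := by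
  have h41 : Fact (Nat.Prime 41) := ⟨by norm_num⟩
  have hx1 : x ^ 41 = 1 := by rw [← hx, pow_orderOf_eq_one]
  have hpn : (pCore 41 X).Normal := Cores.pCore_normal 41
  have hpp : IsPGroup 41 (pCore 41 X) := Cores.pCore_isPGroup 41
  by_cases hb : pCore 41 X = ⊥
  · exfalso
    have hcen : x ∈ centralizer (fittingSubgroup X : Set X) := by
      have h1 : ∀ q : Nat.Primes, (pCore (q : ℕ) X) ≤ centralizer ({x} : Set X) := by
        rintro ⟨q, hq⟩ r hr
        change r ∈ pCore q X at hr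
        have hqf := Fact.mk hq
        have hqn : (pCore q X).Normal := Cores.pCore_normal q
        have hqp : IsPGroup q (pCore q X) := Cores.pCore_isPGroup q
        rw [mem_centralizer_singleton_iff]
        by_cases hq41 : q = 41
        · subst hq41
          rw [hb, mem_bot] at hr
          rw [hr, one_mul, mul_one]
        by_cases hq3 : q = 3
        · subst hq3
          have h4 : Nat.card (pCore 3 X) < 3 ^ 40 := by
            obtain ⟨k, hk⟩ := IsPGroup.iff_card.1 hqp
            have h5 : 3 ^ k ∣ Nat.card X := hk ▸ card_subgroup_dvd_card _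
            rw [hk]
            refine Nat.pow_lt_pow_right (by norm_num) ?_
            by_contra hcon
            exact h3 ((pow_dvd_pow 3 (not_lt.1 hcon)).trans h5)
          exact (commute_of_small _ (pCore 3 X) le_rfl hqp h4 hx1 hm ht ht1 r hr).symm
        · obtain ⟨v, hv⟩ := IsPGroup.iff_card.1 hqp
          have hcond : Cfsg.Agent.H961.PrimeSection.Cond 41 (q ^ v) := by
            intro s i hs hsr hi hd
            have h5 : s = q := (Nat.prime_dvd_prime_iff_eq hs hq).1
              (hs.dvd_of_dvd_pow ((dvd_pow_self s (by omega)).trans hd))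
            subst h5
            refine hc s hs hq3 hq41 i hi (hd.trans ?_)
            rw [← hv]
            exact card_subgroup_dvd_card _
          have h6 := Cfsg.Agent.H961.PrimeSection.aut_eq_one hq hq41 hv hcond
            (φ := (MulAut.conjNormal x : MulAut (pCore q X))) (by rw [← map_pow, hx1, map_one])
          have h7 := congrArg (fun f : MulAut (pCore q X) => ((f ⟨r, hr⟩ : pCore q X) : X)) h6
          have h8 : x * r * x⁻¹ = r := by
            rw [← MulAut.conjNormal_apply x (⟨r, hr⟩ : pCore q X)]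
            exact h7
          exact (mul_inv_eq_iff_eq_mul.1 h8).symm
      rw [mem_centralizer_iff]
      intro y hy
      have h9 : fittingSubgroup X ≤ centralizer ({x} : Set X) := by
        rw [Cores.fittingSubgroup_eq_iSup_pCore]
        exact iSup_le h1
      exact mem_centralizer_singleton_iff.1 (h9 hy)
    have hxF : x ∈ fittingSubgroup X := Cfsg.Agent.S0044.result hcen
    have hxp : IsPGroup 41 (zpowers x) := IsPGroup.of_card (n := 1) (by rw [Nat.card_zpowers, hx, pow_one])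
    have h10 := BenderMaximal.le_pCore_of_le_fittingSubgroup hxp ((zpowers_le).2 hxF)
    rw [hb, le_bot_iff, zpowers_eq_bot] at h10
    rw [h10, orderOf_one] at hx
    norm_num at hx
  · have hcard : Nat.card (pCore 41 X) = 41 := by
      obtain ⟨k, hk⟩ := IsPGroup.iff_card.1 hpp
      have h4 : 41 ^ k ∣ Nat.card X := hk ▸ card_subgroup_dvd_card _
      have hk2 : k < 2 := by
        by_contra hcon
        exact h2 ((pow_dvd_pow 41 (not_lt.1 hcon)).trans h4)
      interval_cases k
      · rw [pow_zero] at hk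
        exact absurd (Subgroup.card_eq_one.1 hk) hb
      · rw [hk, pow_one]
    have hidx : ¬ 41 ∣ (pCore 41 X).index := by
      intro h1
      apply h2
      rw [← (pCore 41 X).card_mul_index, hcard, pow_two]
      exact Nat.mul_dvd_mul_left 41 h1
    let P : Sylow 41 X := hpp.toSylow hidx
    have hPn : (P : Subgroup X).Normal := hpn
    have hxp : IsPGroup 41 (zpowers x) := IsPGroup.of_card (n := 1) (by rw [Nat.card_zpowers, hx, pow_one])
    obtain ⟨Q, hQ⟩ := hxp.exists_le_sylow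
    have hsub : Subsingleton (Sylow 41 X) := by
      have := Sylow.unique_of_normal P hPn
      infer_instance
    rw [Subsingleton.elim Q P] at hQ
    have h5 : zpowers x = pCore 41 X := by
      refine Subgroup.eq_of_le_of_card_ge hQ ?_
      rw [hcard, Nat.card_zpowers, hx]
    rw [h5]
    exact hpn

end Cfsg.Agent.H241.Deg
end

-- part: H241/Deg/FortyOne
section
/-!
# The centralizer of an element of order 41 (helper241; degrees, row `M`)
-/

set_option autoImplicit false

namespace Cfsg.Agent.H241.Deg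

open Subgroup Cfsg Cfsg.Agent.H438.Fpr.LemB Cfsg.Agent.H995.CopEngine Cfsg.Agent.H291.SolNorm
open scoped Pointwise

universe u

theorem mem_of_pow {G : Type*} [Group G] [Finite G] {C : Subgroup G} {g : G} {n : ℕ} (hn : g ^ n ∈ C)
    (hc : (orderOf g).Coprime n) : g ∈ C := by
  have h2 : zpowers (g ^ n) = zpowers g := by
    apply Subgroup.eq_of_le_of_card_ge
    · rw [zpowers_le]
      exact Subgroup.pow_mem _ (mem_zpowers g) n
    · rw [Nat.card_zpowers, Nat.card_zpowers, Nat.Coprime.orderOf_pow hc]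
  have h1 : g ∈ zpowers (g ^ n) := by
    rw [h2]
    exact mem_zpowers g
  exact (zpowers_le.2 hn) h1

section Norm

variable {G : Type u} [Group G] [Finite G] {x : G}

/-- the elements of order 41 of the normalizer -/
theorem mem_zpowers_of (hx : orderOf x = 41) (h41 : ¬ 41 ^ 2 ∣ Nat.card G) {g : G}
    (hg : g ∈ normalizer ((zpowers x : Subgroup G) : Set G)) (hg1 : g ^ 41 = 1) : g ∈ zpowers x := by
  set N := normalizer ((zpowers x : Subgroup G) : Set G) with hN
  have hle : zpowers x ≤ N := le_normalizer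
  have hHn : ((zpowers x).subgroupOf N).Normal := Subgroup.normal_in_normalizer
  set H : Subgroup N := (zpowers x).subgroupOf N with hH
  have hHc : Nat.card H = 41 := by
    rw [Nat.card_congr (subgroupOfEquivOfLe hle).toEquiv, Nat.card_zpowers, hx]
  have hidx : ¬ 41 ∣ H.index := by
    intro h1
    apply h41
    refine Dvd.dvd.trans ?_ (card_subgroup_dvd_card N)
    rw [← H.card_mul_index, hHc, pow_two]
    exact Nat.mul_dvd_mul_left 41 h1
  have h1 : (⟨g, hg⟩ : N) ^ H.index ∈ H := H.pow_index_mem _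
  have h2 : (⟨g, hg⟩ : N) ∈ H := by
    refine mem_of_pow h1 ?_
    have h3 : orderOf (⟨g, hg⟩ : N) ∣ 41 := orderOf_dvd_of_pow_eq_one (Subtype.ext hg1)
    exact Nat.Coprime.coprime_dvd_left h3 ((Nat.Prime.coprime_iff_not_dvd (by norm_num)).2 hidx)
  exact h2

/-- the centralizer is normal in the normalizer -/
theorem conj_mem_cent {g c : G} (hg : g ∈ normalizer ((zpowers x : Subgroup G) : Set G))
    (hc : c ∈ centralizer ({x} : Set G)) : g * c * g⁻¹ ∈ centralizer ({x} : Set G) := by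
  have h1 := (mem_normalizer_iff.1 (inv_mem hg) x).1 (mem_zpowers x)
  obtain ⟨i, hi⟩ := mem_zpowers_iff.1 h1
  rw [inv_inv] at hi
  rw [mem_centralizer_singleton_iff] at hc ⊢
  have h2 : c * (g⁻¹ * x * g) = (g⁻¹ * x * g) * c := by
    rw [← hi]
    exact ((show Commute c x from hc).zpow_right i).eq
  calc g * c * g⁻¹ * x = g * (c * (g⁻¹ * x * g)) * g⁻¹ := by group
    _ = g * ((g⁻¹ * x * g) * c) * g⁻¹ := by rw [h2]
    _ = x * (g * c * g⁻¹) := by group

theorem cent_le_norm : centralizer ({x} : Set G) ≤ normalizer ((zpowers x : Subgroup G) : Set G) := by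
  rw [← centralizer_zpowers]
  exact centralizer_le_normalizer _

/-- an element moving `x` into `⟨x⟩` -/
theorem mem_norm_of {g : G} {t : ℕ} (h : g * x * g⁻¹ = x ^ t) : g ∈ normalizer ((zpowers x : Subgroup G) : Set G) := by
  have hle : (zpowers x).map (MulAut.conj g).toMonoidHom ≤ zpowers x := by
    rw [MonoidHom.map_zpowers, zpowers_le]
    show g * x * g⁻¹ ∈ zpowers x
    rw [h]
    exact Subgroup.pow_mem _ (mem_zpowers x) t
  have heq : (zpowers x).map (MulAut.conj g).toMonoidHom = zpowers x := by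
    apply Subgroup.eq_of_le_of_card_ge hle
    rw [card_map_of_injective (MulAut.conj g).injective]
  rw [mem_normalizer_iff]
  intro y
  constructor
  · intro hy
    exact hle ⟨y, hy, rfl⟩
  · intro hy
    rw [← heq] at hy
    obtain ⟨z, hz, hzy⟩ := hy
    have h1 : g * z * g⁻¹ = g * y * g⁻¹ := hzy
    have h2 : z = y := mul_left_cancel (mul_right_cancel h1)
    rwa [← h2]

/-- the index is divisible by 5 -/
theorem five_dvd {e : ℕ} (hN : Nat.card (normalizer ((zpowers x : Subgroup G) : Set G)) =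
    Nat.card (centralizer ({x} : Set G)) * e) (hx : orderOf x = 41) {m : G} {t : ℕ} (hm : m * x * m⁻¹ = x ^ t)
    (ht : t ^ 5 % 41 = 1) (ht1 : t % 41 ≠ 1) : 5 ∣ e := by
  set N := normalizer ((zpowers x : Subgroup G) : Set G) with hNd
  set C := centralizer ({x} : Set G) with hCd
  have hle : C ≤ N := cent_le_norm
  have hmN : m ∈ N := mem_norm_of hm
  have hCn : (C.subgroupOf N).Normal := ⟨fun c hc g => conj_mem_cent g.2 hc⟩
  have hidx : (C.subgroupOf N).index = e := by
    have h1 := (C.subgroupOf N).card_mul_index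
    rw [Nat.card_congr (subgroupOfEquivOfLe hle).toEquiv, hN] at h1
    exact Nat.eq_of_mul_eq_mul_left Nat.card_pos h1
  by_contra h5
  have h1 : (⟨m, hmN⟩ : N) ^ e ∈ C.subgroupOf N := by
    rw [← hidx]
    exact (C.subgroupOf N).pow_index_mem _
  have h1' : m ^ e ∈ C := h1
  have h4 : ∀ n : ℕ, m ^ n * x * (m ^ n)⁻¹ = x ^ t ^ n := by
    intro n
    induction n with
    | zero => simp
    | succ n ih =>
      calc m ^ (n + 1) * x * (m ^ (n + 1))⁻¹ = m * (m ^ n * x * (m ^ n)⁻¹) * m⁻¹ := by rw [pow_succ']; group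
        _ = (m * x * m⁻¹) ^ t ^ n := by rw [ih, conj_pow]
        _ = x ^ t ^ (n + 1) := by rw [hm, ← pow_mul, pow_succ']
  have h5' : m ^ 5 ∈ C := by
    rw [hCd, mem_centralizer_singleton_iff]
    have h6 := h4 5
    have h7 : x ^ t ^ 5 = x := by
      rw [← pow_mod_orderOf, hx, ht, pow_one]
    rw [h7] at h6
    exact mul_inv_eq_iff_eq_mul.1 h6
  have hco : Nat.Coprime 5 e := (Nat.prime_five.coprime_iff_not_dvd).2 h5
  have hmC : m ∈ C := by
    have h8 : (m : G) ^ (Nat.gcd 5 e : ℤ) ∈ C := by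
      rw [Nat.gcd_eq_gcd_ab, zpow_add, zpow_mul, zpow_mul]
      refine C.mul_mem (C.zpow_mem ?_ _) (C.zpow_mem ?_ _)
      · exact_mod_cast h5'
      · exact_mod_cast h1'
    rw [hco] at h8
    simpa using h8
  rw [hCd, mem_centralizer_singleton_iff] at hmC
  apply ht1
  have h9 : x ^ t = x ^ 1 := by rw [← hm, hmC, mul_inv_cancel_right, pow_one]
  have h10 := pow_eq_pow_iff_modEq.1 h9
  rw [hx] at h10
  exact h10

end Norm

/-- the hypotheses -/
structure Hyp {G : Type u} [Group G] [Finite G] (x : G) : Prop where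
  hx : orderOf x = 41
  h41 : ¬ 41 ^ 2 ∣ Nat.card G
  h3 : ¬ 3 ^ 40 ∣ Nat.card G
  s3 : 3 ^ 3 ∣ Nat.card G
  s5 : 5 ^ 5 ∣ Nat.card G
  hc : ∀ q : ℕ, q.Prime → q ≠ 2 → q ≠ 3 → q ≠ 41 → ∀ i, 1 ≤ i → q ^ i ∣ Nat.card G → ¬ 41 ∣ q ^ i - 1
  hodd : ∀ y : G, orderOf y = 3 ∨ orderOf y = 5 → x * y = y * x → ¬ 2 ∣ Nat.card (centralizer ({y} : Set G))

namespace Hyp

variable {G : Type u} [Group G] [Finite G] {x : G}

theorem solvable (H : Hyp x) {y : G} (hy : orderOf y = 3 ∨ orderOf y = 5) (hxy : x * y = y * x) :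
    Group.IsSolvable ↥(centralizer ({y} : Set G)) := by
  refine S0205.result ?_
  rw [← Nat.not_even_iff_odd]
  exact fun h => H.hodd y hy hxy h.two_dvd

theorem cond (H : Hyp x) {y : G} (hy : orderOf y = 3 ∨ orderOf y = 5) (hxy : x * y = y * x) :
    ∀ q : ℕ, q.Prime → q ≠ 3 → q ≠ 41 → ∀ i, 1 ≤ i → q ^ i ∣ Nat.card (centralizer ({y} : Set G)) → ¬ 41 ∣ q ^ i - 1 := by
  intro q hq h3 h41 i hi hd
  by_cases h2 : q = 2
  · subst h2
    exact absurd ((dvd_pow_self 2 (by omega)).trans hd) (H.hodd y hy hxy)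
  · exact H.hc q hq h2 h3 h41 i hi (hd.trans (card_subgroup_dvd_card _))

/-- **`C(y) ≤ N(⟨x⟩)`** -/
theorem le_norm (H : Hyp x) {y : G} (hy : orderOf y = 3 ∨ orderOf y = 5) (hxy : x * y = y * x) {m : G}
    (hmy : m * y = y * m) {t : ℕ} (hm : m * x * m⁻¹ = x ^ t) (ht : t ^ 5 % 41 = 1) (ht1 : t % 41 ≠ 1) :
    centralizer ({y} : Set G) ≤ normalizer ((zpowers x : Subgroup G) : Set G) := by
  set X := centralizer ({y} : Set G) with hX
  have hxX : x ∈ X := mem_centralizer_singleton_iff.2 hxy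
  have hmX : m ∈ X := mem_centralizer_singleton_iff.2 hmy
  have hn := normal_of_five (H.solvable hy hxy) (fun h => H.h41 (h.trans (card_subgroup_dvd_card _)))
    (fun h => H.h3 (h.trans (card_subgroup_dvd_card _))) (H.cond hy hxy) (x := (⟨x, hxX⟩ : X)) (m := (⟨m, hmX⟩ : X))
    (by rw [Subgroup.orderOf_mk, H.hx]) (t := t) (Subtype.ext hm) ht ht1
  intro g hg
  have h1 := hn.conj_mem (⟨x, hxX⟩ : X) (mem_zpowers _) ⟨g, hg⟩
  rw [← mem_powers_iff_mem_zpowers] at h1
  obtain ⟨s, hs⟩ := h1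
  exact mem_norm_of (t := s) (congrArg Subtype.val hs).symm

theorem nice (H : Hyp x) {y : G} (hy : orderOf y = 3 ∨ orderOf y = 5) (hxy : x * y = y * x) :
    Nice 41 ↥(centralizer ({y} : Set G)) := by
  refine Nice.of_solIdx (by norm_num) ?_ (fun h => H.h41 (h.trans (card_subgroup_dvd_card _)))
    (SolIdx.of_solvable (by norm_num) (H.solvable hy hxy))
  have h1 := Subgroup.orderOf_dvd_natCard _ (mem_centralizer_singleton_iff.2 hxy)
  rwa [H.hx] at h1

/-- an element of order 5 modulo the centralizer -/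
theorem exists_m (H : Hyp x) {y : G} (hy : orderOf y = 3 ∨ orderOf y = 5) (hxy : x * y = y * x) {k : ℕ}
    (hk : 5 ^ k ∣ Nat.card (centralizer ({y} : Set G))) (hk' : ¬ 5 ^ k ∣ Nat.card (centralizer ({x} : Set G))) :
    ∃ (m : G) (t : ℕ), m * y = y * m ∧ m * x * m⁻¹ = x ^ t ∧ t ^ 5 % 41 = 1 ∧ t % 41 ≠ 1 := by
  set X := centralizer ({y} : Set G) with hX
  have hxX : x ∈ X := mem_centralizer_singleton_iff.2 hxy
  have key : Nat.card (centralizer ({(⟨x, hxX⟩ : X)} : Set X)) ∣ Nat.card (centralizer ({x} : Set G)) := by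
    rw [← card_map_of_injective X.subtype_injective]
    refine card_dvd_of_le ?_
    rintro _ ⟨c, hc, rfl⟩
    exact mem_centralizer_singleton_iff.2 (congrArg Subtype.val (mem_centralizer_singleton_iff.1 hc))
  obtain ⟨m, t, h1, h2, h3⟩ := exists_five (fun h => H.h41 (h.trans (card_subgroup_dvd_card _))) (x := (⟨x, hxX⟩ : X))
    (by rw [Subgroup.orderOf_mk, H.hx]) (H.nice hy hxy)
    (fun i hi hd => H.cond hy hxy 5 Nat.prime_five (by norm_num) (by norm_num) i hi hd) hk (fun h => hk' (h.trans key))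
  exact ⟨m, t, mem_centralizer_singleton_iff.1 m.2, congrArg Subtype.val h1, h2, h3⟩

/-- the 5-part of `N(⟨x⟩)` -/
theorem norm_five (H : Hyp x) {y : G} (hy : orderOf y = 3 ∨ orderOf y = 5) (hxy : x * y = y * x) {k : ℕ}
    (hk : 5 ^ k ∣ Nat.card (centralizer ({y} : Set G))) :
    5 ^ k ∣ Nat.card (normalizer ((zpowers x : Subgroup G) : Set G)) := by
  set X := centralizer ({y} : Set G) with hX
  have hxX : x ∈ X := mem_centralizer_singleton_iff.2 hxy
  have h1 := norm_part (by norm_num) (fun h => H.h41 (h.trans (card_subgroup_dvd_card _))) (x := (⟨x, hxX⟩ : X))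
    (by rw [Subgroup.orderOf_mk, H.hx]) (H.nice hy hxy) Nat.prime_five (by norm_num)
    (fun i hi hd => H.cond hy hxy 5 Nat.prime_five (by norm_num) (by norm_num) i hi hd) hk
  refine h1.trans ?_
  rw [← card_map_of_injective X.subtype_injective]
  refine card_dvd_of_le ?_
  rintro _ ⟨g, hg, rfl⟩
  have h2 := (mem_normalizer_iff.1 hg ⟨x, hxX⟩).1 (mem_zpowers _)
  rw [← mem_powers_iff_mem_zpowers] at h2
  obtain ⟨s, hs⟩ := h2
  exact mem_norm_of (t := s) (congrArg Subtype.val hs).symm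

/-- **The centralizer is commutative.** -/
theorem comm (H : Hyp x) {a b : ℕ} (hC : Nat.card (centralizer ({x} : Set G)) ∣ 3 ^ a * 5 ^ b * 41)
    (hN : 2 ∣ Nat.card (normalizer ((zpowers x : Subgroup G) : Set G))) :
    ∀ c ∈ centralizer ({x} : Set G), ∀ d ∈ centralizer ({x} : Set G), c * d = d * c := by
  have h2f : Fact (Nat.Prime 2) := ⟨Nat.prime_two⟩
  set C := centralizer ({x} : Set G) with hCd
  set N := normalizer ((zpowers x : Subgroup G) : Set G) with hNd
  have hC2 : ¬ 2 ∣ Nat.card C := fun h => by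
    have h1 := h.trans hC
    rcases (Nat.Prime.dvd_mul Nat.prime_two).1 h1 with h2 | h2
    · rcases (Nat.Prime.dvd_mul Nat.prime_two).1 h2 with h3 | h3
      · exact absurd (Nat.prime_two.dvd_of_dvd_pow h3) (by norm_num)
      · exact absurd (Nat.prime_two.dvd_of_dvd_pow h3) (by norm_num)
    · exact absurd h2 (by norm_num)
  obtain ⟨τ, hτ⟩ := exists_prime_orderOf_dvd_card' 2 hN
  have hτo : orderOf (τ : G) = 2 := by rw [Subgroup.orderOf_coe, hτ]
  have hτ2 : (τ : G) * τ = 1 := by
    have := pow_orderOf_eq_one (τ : G)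
    rwa [hτo, pow_two] at this
  have hτC : (τ : G) ∉ C := fun h => by
    apply hC2
    have := Subgroup.orderOf_dvd_natCard C h
    rwa [hτo] at this
  -- the fixed points
  have hfix : ∀ c ∈ C, (τ : G) * c = c * τ → c = 1 := by
    intro c hc hcτ
    by_contra hc1
    have ho : orderOf c ≠ 1 := fun h => hc1 (orderOf_eq_one_iff.1 h)
    obtain ⟨q, hq, hqd⟩ := Nat.exists_prime_and_dvd ho
    have hcd : orderOf c ∣ 3 ^ a * 5 ^ b * 41 := (Subgroup.orderOf_dvd_natCard C hc).trans hC
    have hq3 : q = 3 ∨ q = 5 ∨ q = 41 := by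
      rcases hq.dvd_mul.1 (hqd.trans hcd) with h1 | h1
      · rcases hq.dvd_mul.1 h1 with h2 | h2
        · exact Or.inl ((Nat.prime_dvd_prime_iff_eq hq Nat.prime_three).1 (hq.dvd_of_dvd_pow h2))
        · exact Or.inr (Or.inl ((Nat.prime_dvd_prime_iff_eq hq Nat.prime_five).1 (hq.dvd_of_dvd_pow h2)))
      · exact Or.inr (Or.inr ((Nat.prime_dvd_prime_iff_eq hq (by norm_num)).1 h1))
    set c' := c ^ (orderOf c / q) with hc'
    have hc'o : orderOf c' = q := by
      rw [hc', orderOf_pow_of_dvd (Nat.div_pos (Nat.le_of_dvd (orderOf_pos c) hqd) hq.pos).ne'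
        (Nat.div_dvd_of_dvd hqd), Nat.div_div_self hqd (orderOf_pos c).ne']
    have hc'C : c' ∈ C := C.pow_mem hc _
    have hc'τ : (τ : G) * c' = c' * τ := ((show Commute (τ : G) c from hcτ).pow_right _).eq
    have hxc : x * c' = c' * x := (mem_centralizer_singleton_iff.1 hc'C).symm
    have hτc : 2 ∣ Nat.card (centralizer ({c'} : Set G)) := by
      have := Subgroup.orderOf_dvd_natCard _ (mem_centralizer_singleton_iff.2 hc'τ)
      rwa [hτo] at this
    rcases hq3 with rfl | rfl | rfl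
    · exact H.hodd c' (Or.inl hc'o) hxc hτc
    · exact H.hodd c' (Or.inr hc'o) hxc hτc
    · have h3 : c' ∈ zpowers x := mem_zpowers_of H.hx H.h41 (cent_le_norm hc'C) (by rw [← hc'o, pow_orderOf_eq_one])
      have h4 : zpowers c' = zpowers x := by
        apply Subgroup.eq_of_le_of_card_ge (zpowers_le.2 h3)
        rw [Nat.card_zpowers, Nat.card_zpowers, H.hx, hc'o]
      have h5 : x ∈ zpowers c' := by
        rw [h4]
        exact mem_zpowers x
      obtain ⟨i, hi⟩ := mem_zpowers_iff.1 h5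
      apply hτC
      rw [hCd, mem_centralizer_singleton_iff, ← hi]
      exact ((show Commute (τ : G) c' from hc'τ).zpow_right i).eq
  let φ : C →* C :=
    { toFun := fun c => ⟨τ * c * (τ : G)⁻¹, conj_mem_cent τ.2 c.2⟩
      map_one' := Subtype.ext (by simp)
      map_mul' := fun c d => Subtype.ext (by
        show (τ : G) * (c * d) * (τ : G)⁻¹ = τ * c * (τ : G)⁻¹ * (τ * d * (τ : G)⁻¹)
        group) }
  have hφ : MonoidHom.FixedPointFree φ := by
    intro c hc
    apply Subtype.ext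
    have h1 : (τ : G) * c * (τ : G)⁻¹ = c := congrArg Subtype.val hc
    exact hfix c c.2 (mul_inv_eq_iff_eq_mul.1 h1)
  have hφ2 : Function.Involutive φ := by
    intro c
    apply Subtype.ext
    show (τ : G) * (τ * c * (τ : G)⁻¹) * (τ : G)⁻¹ = c
    calc (τ : G) * (τ * c * (τ : G)⁻¹) * (τ : G)⁻¹ = ((τ : G) * τ) * c * ((τ : G) * τ)⁻¹ := by group
      _ = c := by rw [hτ2, one_mul, inv_one, mul_one]
  intro c hc d hd
  exact congrArg Subtype.val (hφ.commute_all_of_involutive hφ2 (⟨c, hc⟩ : C) ⟨d, hd⟩).eq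

/-- **A Sylow 5-subgroup of `C(x)` and the centralizers of its elements.** -/
theorem five_step (H : Hyp x) (hcomm : ∀ c ∈ centralizer ({x} : Set G), ∀ d ∈ centralizer ({x} : Set G), c * d = d * c)
    (hN5 : ¬ 5 ^ 5 ∣ Nat.card (normalizer ((zpowers x : Subgroup G) : Set G))) {P : Subgroup G}
    (hP : P ≤ centralizer ({x} : Set G)) {b : ℕ} (hPc : Nat.card P = 5 ^ b)
    (hb : ¬ 5 ^ (b + 1) ∣ Nat.card (centralizer ({x} : Set G))) {u : G} (hu : u ∈ P) (huo : orderOf u = 5) :
    ∃ (m : G) (t : ℕ), m * u = u * m ∧ m * x * m⁻¹ = x ^ t ∧ t ^ 5 % 41 = 1 ∧ t % 41 ≠ 1 := by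
  have h5f : Fact (Nat.Prime 5) := ⟨Nat.prime_five⟩
  set C := centralizer ({x} : Set G) with hCd
  have hxu : x * u = u * x := (mem_centralizer_singleton_iff.1 (hP hu)).symm
  refine H.exists_m (Or.inr huo) hxu (k := b + 1) ?_ hb
  obtain ⟨S, hS⟩ := (IsPGroup.of_card hPc).exists_le_sylow
  have hSne : (S : Subgroup G) ≠ ⊥ := fun h => by
    have h1 := hS hu
    rw [h, mem_bot] at h1
    rw [h1, orderOf_one] at huo
    norm_num at huo
  obtain ⟨w, hwS, hwo, hwc⟩ := Cfsg.Agent.H58.Cop.exists_center_order S.2 hSne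
  have hwC : w ∉ C := by
    intro hwC
    apply hN5
    refine H.norm_five (y := w) (Or.inr hwo) (mem_centralizer_singleton_iff.1 hwC).symm ?_
    refine Dvd.dvd.trans ?_ (card_dvd_of_le (fun s hs => mem_centralizer_singleton_iff.2 (hwc s hs) :
      (S : Subgroup G) ≤ centralizer ({w} : Set G)))
    rw [Sylow.card_eq_multiplicity]
    exact pow_dvd_pow 5 ((Nat.prime_five.pow_dvd_iff_le_factorization Nat.card_pos.ne').1 H.s5)
  set A : Subgroup G := (S : Subgroup G) ⊓ centralizer ({u} : Set G) with hA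
  have hPA : P ≤ A := le_inf hS fun c hc => mem_centralizer_singleton_iff.2 (hcomm c (hP hc) u (hP hu))
  have hwA : w ∈ A := ⟨hwS, mem_centralizer_singleton_iff.2 (hwc u (hS hu)).symm⟩
  have hlt : P < A := lt_of_le_of_ne hPA fun h => hwC (hP (by rw [h]; exact hwA))
  obtain ⟨j, hj⟩ := IsPGroup.iff_card.1 (S.2.to_le (inf_le_left : A ≤ (S : Subgroup G)))
  have hcl : Nat.card P < Nat.card A := by
    have h1 : (P : Set G).ncard < (A : Set G).ncard := Set.ncard_lt_ncard hlt (Set.toFinite _)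
    exact h1
  rw [hPc, hj] at hcl
  have hbj : b < j := (Nat.pow_lt_pow_iff_right (by norm_num)).1 hcl
  exact (pow_dvd_pow 5 hbj).trans (hj ▸ card_dvd_of_le inf_le_right)

/-- a Sylow 5-subgroup of `C(x)` -/
theorem exists_P {b : ℕ} (hb : 5 ^ b ∣ Nat.card (centralizer ({x} : Set G))) :
    ∃ P : Subgroup G, P ≤ centralizer ({x} : Set G) ∧ Nat.card P = 5 ^ b := by
  have h5f : Fact (Nat.Prime 5) := ⟨Nat.prime_five⟩
  obtain ⟨Q, hQ⟩ := Sylow.exists_subgroup_card_pow_prime 5 hb
  exact ⟨Q.map (centralizer ({x} : Set G)).subtype, map_subtype_le _,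
    by rw [card_map_of_injective (Subgroup.subtype_injective _), hQ]⟩

theorem exists_u {P : Subgroup G} {b : ℕ} (hPc : Nat.card P = 5 ^ b) (hb : b ≠ 0) : ∃ u ∈ P, orderOf u = 5 := by
  have h5f : Fact (Nat.Prime 5) := ⟨Nat.prime_five⟩
  obtain ⟨u, hu⟩ := exists_prime_orderOf_dvd_card' (G := P) 5 (by rw [hPc]; exact dvd_pow_self 5 hb)
  exact ⟨u, u.2, by rw [Subgroup.orderOf_coe, hu]⟩

/-- **`5 ∣ e`** -/
theorem five_dvd_e (H : Hyp x) (hcomm : ∀ c ∈ centralizer ({x} : Set G), ∀ d ∈ centralizer ({x} : Set G), c * d = d * c)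
    (hN5 : ¬ 5 ^ 5 ∣ Nat.card (normalizer ((zpowers x : Subgroup G) : Set G))) {b e : ℕ} (hb0 : b ≠ 0)
    (hb1 : 5 ^ b ∣ Nat.card (centralizer ({x} : Set G))) (hb2 : ¬ 5 ^ (b + 1) ∣ Nat.card (centralizer ({x} : Set G)))
    (hN : Nat.card (normalizer ((zpowers x : Subgroup G) : Set G)) = Nat.card (centralizer ({x} : Set G)) * e) :
    5 ∣ e := by
  obtain ⟨P, hP, hPc⟩ := exists_P hb1
  obtain ⟨u, hu, huo⟩ := exists_u hPc hb0
  obtain ⟨m, t, -, h1, h2, h3⟩ := H.five_step hcomm hN5 hP hPc hb2 hu huo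
  exact five_dvd hN H.hx h1 h2 h3

/-- **`|C(x)|` is not `5 ^ 3 · 41`.** -/
theorem not_cube (H : Hyp x) (hcomm : ∀ c ∈ centralizer ({x} : Set G), ∀ d ∈ centralizer ({x} : Set G), c * d = d * c)
    (hN5 : ¬ 5 ^ 5 ∣ Nat.card (normalizer ((zpowers x : Subgroup G) : Set G)))
    (hb1 : 5 ^ 3 ∣ Nat.card (centralizer ({x} : Set G))) (hb2 : ¬ 5 ^ 4 ∣ Nat.card (centralizer ({x} : Set G))) :
    False := by
  have h5f : Fact (Nat.Prime 5) := ⟨Nat.prime_five⟩
  obtain ⟨P, hP, hPc⟩ := exists_P hb1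
  set N := normalizer ((zpowers x : Subgroup G) : Set G) with hNd
  have hall : ∀ u ∈ P, orderOf u = 5 → centralizer ({u} : Set G) ≤ N := by
    intro u hu huo
    obtain ⟨m, t, h0, h1, h2, h3⟩ := H.five_step hcomm hN5 hP hPc hb2 hu huo
    exact H.le_norm (Or.inr huo) (mem_centralizer_singleton_iff.1 (hP hu)).symm h0 h1 h2 h3
  obtain ⟨S, hS⟩ := (IsPGroup.of_card hPc).exists_le_sylow
  set A : Subgroup G := (S : Subgroup G) ⊓ N with hA
  have hPA : P ≤ A := le_inf hS (hP.trans cent_le_norm)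
  have hAp : IsPGroup 5 A := S.2.to_le inf_le_left
  obtain ⟨j, hj⟩ := IsPGroup.iff_card.1 hAp
  have hj4 : j ≤ 4 := by
    by_contra hcon
    apply hN5
    refine (pow_dvd_pow 5 (by omega : 5 ≤ j)).trans ?_
    rw [← hj]
    exact card_dvd_of_le inf_le_right
  have hAS : A.subgroupOf (S : Subgroup G) < ⊤ := by
    rw [lt_top_iff_ne_top]
    intro htop
    have h1 : (S : Subgroup G) ≤ A := by
      intro g hg
      have h2 : (⟨g, hg⟩ : (S : Subgroup G)) ∈ A.subgroupOf (S : Subgroup G) := by rw [htop]; trivial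
      exact h2
    have h2 : 5 ^ 5 ∣ Nat.card (S : Subgroup G) := by
      rw [Sylow.card_eq_multiplicity]
      exact pow_dvd_pow 5 ((Nat.prime_five.pow_dvd_iff_le_factorization Nat.card_pos.ne').1 H.s5)
    exact hN5 ((h2.trans (card_dvd_of_le h1)).trans (card_dvd_of_le inf_le_right))
  have hnil : Group.IsNilpotent ↥(S : Subgroup G) := S.isPGroup'.isNilpotent
  have h1 := Group.normalizerCondition_of_isNilpotent (G := ↥(S : Subgroup G)) _ hAS
  obtain ⟨⟨g, hgS⟩, hg1, hg2⟩ := SetLike.exists_of_lt h1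
  have hgA : g ∉ A := fun h => hg2 (mem_subgroupOf.2 h)
  have hgc : ∀ a ∈ A, g * a * g⁻¹ ∈ A := by
    intro a ha
    rw [mem_normalizer_iff] at hg1
    exact (hg1 ⟨a, ha.1⟩).1 ha
  -- `P ∩ P ^ g`
  set P' : Subgroup G := P.map (MulAut.conj g).toMonoidHom with hP'
  have hP'A : P' ≤ A := by
    rintro _ ⟨a, ha, rfl⟩
    exact hgc a (hPA ha)
  have hP'c : Nat.card P' = 5 ^ 3 := by
    rw [hP', card_map_of_injective (MulAut.conj g).injective, hPc]
  by_cases hd : P ⊓ P' = ⊥
  · have h2 := Subgroup.mul_injective_of_disjoint (disjoint_iff.2 hd)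
    let f : P × P' → A := fun w => ⟨(w.1 : G) * w.2, A.mul_mem (hPA w.1.2) (hP'A w.2.2)⟩
    have hf : Function.Injective f := fun u v huv => h2 (congrArg Subtype.val huv)
    have h3 := Nat.card_le_card_of_injective f hf
    rw [Nat.card_prod, hPc, hP'c, hj, ← pow_add] at h3
    have h4 := (Nat.pow_le_pow_iff_right (by norm_num : 1 < 5)).1 h3
    omega
  · have hp1 : IsPGroup 5 ↥(P ⊓ P' : Subgroup G) := hAp.to_le (inf_le_left.trans hPA)
    have hnt : Nontrivial ↥(P ⊓ P' : Subgroup G) := (Subgroup.nontrivial_iff_ne_bot _).2 hd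
    obtain ⟨i, hi0, hi⟩ := hp1.nontrivial_iff_card.1 hnt
    obtain ⟨⟨w, hw⟩, hwo⟩ := exists_prime_orderOf_dvd_card' 5
      (show 5 ∣ Nat.card ↥(P ⊓ P' : Subgroup G) by
        rw [hi]; exact dvd_pow_self 5 hi0.ne')
    rw [Subgroup.orderOf_mk] at hwo
    obtain ⟨hwP, v, hv, hvw⟩ := hw
    have hvw' : g * v * g⁻¹ = w := hvw
    have h3 : g * x * g⁻¹ ∈ centralizer ({w} : Set G) := by
      rw [mem_centralizer_singleton_iff, ← hvw']
      have h4 := mem_centralizer_singleton_iff.1 (hP hv)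
      calc g * x * g⁻¹ * (g * v * g⁻¹) = g * (x * v) * g⁻¹ := by group
        _ = g * (v * x) * g⁻¹ := by rw [h4]
        _ = _ := by group
    have h4 := hall w hwP hwo h3
    have h5 := mem_zpowers_of H.hx H.h41 h4 (by
      rw [conj_pow, ← H.hx, pow_orderOf_eq_one, mul_one, mul_inv_cancel])
    rw [← mem_powers_iff_mem_zpowers] at h5
    obtain ⟨s, hs⟩ := h5
    exact hgA ⟨hgS, mem_norm_of (t := s) hs.symm⟩

/-- **The 3-part.** -/
theorem not_nine (H : Hyp x) (hcomm : ∀ c ∈ centralizer ({x} : Set G), ∀ d ∈ centralizer ({x} : Set G), c * d = d * c)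
    (hN5 : ¬ 5 ^ 5 ∣ Nat.card (normalizer ((zpowers x : Subgroup G) : Set G))) {b e : ℕ} (hb0 : b ≠ 0)
    (hb1 : 5 ^ b ∣ Nat.card (centralizer ({x} : Set G))) (hb2 : ¬ 5 ^ (b + 1) ∣ Nat.card (centralizer ({x} : Set G)))
    (hN : Nat.card (normalizer ((zpowers x : Subgroup G) : Set G)) = Nat.card (centralizer ({x} : Set G)) * e)
    (he : ¬ 3 ∣ e) (h3 : 3 ∣ Nat.card (centralizer ({x} : Set G)))
    (hC3 : ¬ 3 ^ 3 ∣ Nat.card (centralizer ({x} : Set G))) : False := by
  have h3f : Fact (Nat.Prime 3) := ⟨Nat.prime_three⟩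
  set C := centralizer ({x} : Set G) with hCd
  set N := normalizer ((zpowers x : Subgroup G) : Set G) with hNd
  obtain ⟨P, hP, hPc⟩ := exists_P hb1
  obtain ⟨u, hu, huo⟩ := exists_u hPc hb0
  obtain ⟨m, t, -, hm, ht, ht1⟩ := H.five_step hcomm hN5 hP hPc hb2 hu huo
  have hmN : m ∈ N := mem_norm_of hm
  -- the elements of order 3 of `C`
  let E : Subgroup G :=
    { carrier := {c | c ∈ C ∧ c ^ 3 = 1}
      one_mem' := ⟨C.one_mem, one_pow 3⟩
      mul_mem' := by
        rintro a b ⟨ha, ha3⟩ ⟨hb, hb3⟩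
        exact ⟨C.mul_mem ha hb, by rw [(show Commute a b from hcomm a ha b hb).mul_pow, ha3, hb3, one_mul]⟩
      inv_mem' := by
        rintro a ⟨ha, ha3⟩
        exact ⟨C.inv_mem ha, by rw [inv_pow, ha3, inv_one]⟩ }
  have hEC : E ≤ C := fun a ha => ha.1
  have hE3 : IsPGroup 3 E := fun a => ⟨1, Subtype.ext (by rw [pow_one]; exact a.2.2)⟩
  obtain ⟨v, hv⟩ := IsPGroup.iff_card.1 hE3
  have hv2 : v ≤ 2 := by
    by_contra hcon
    apply hC3
    refine (pow_dvd_pow 3 (by omega : 3 ≤ v)).trans ?_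
    rw [← hv]
    exact card_dvd_of_le hEC
  have hEn : ∀ g ∈ N, ∀ a ∈ E, g * a * g⁻¹ ∈ E := fun g hg a ha =>
    ⟨conj_mem_cent hg ha.1, by rw [conj_pow, ha.2, mul_one, mul_inv_cancel]⟩
  have hNE : N ≤ normalizer (E : Set G) := by
    intro g hg
    rw [mem_normalizer_iff]
    intro a
    constructor
    · exact hEn g hg a
    · intro ha
      have h1 := hEn g⁻¹ (inv_mem hg) _ ha
      have h2 : g⁻¹ * (g * a * g⁻¹) * g⁻¹⁻¹ = a := by group
      rwa [h2] at h1
  have hm5 : m ^ 5 ∈ C := by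
    have h4 : ∀ n : ℕ, m ^ n * x * (m ^ n)⁻¹ = x ^ t ^ n := by
      intro n
      induction n with
      | zero => simp
      | succ n ih =>
        calc m ^ (n + 1) * x * (m ^ (n + 1))⁻¹ = m * (m ^ n * x * (m ^ n)⁻¹) * m⁻¹ := by rw [pow_succ']; group
          _ = (m * x * m⁻¹) ^ t ^ n := by rw [ih, conj_pow]
          _ = x ^ t ^ (n + 1) := by rw [hm, ← pow_mul, pow_succ']
    rw [hCd, mem_centralizer_singleton_iff]
    have h6 := h4 5
    have h7 : x ^ t ^ 5 = x := by
      rw [← pow_mod_orderOf, H.hx, ht, pow_one]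
    rw [h7] at h6
    exact mul_inv_eq_iff_eq_mul.1 h6
  have hmE : ∀ a ∈ E, m * a = a * m := by
    have h5f : Fact (Nat.Prime 5) := ⟨Nat.prime_five⟩
    have hcond : Cfsg.Agent.H961.PrimeSection.Cond 5 (3 ^ v) := by
      intro s i hs hsr hi hd
      have h5 : s = 3 := (Nat.prime_dvd_prime_iff_eq hs Nat.prime_three).1
        (hs.dvd_of_dvd_pow ((dvd_pow_self s (by omega)).trans hd))
      subst h5
      have hiv : i ≤ v := (Nat.pow_dvd_pow_iff_le_right (by norm_num)).1 hd
      have hi2 : i ≤ 2 := hiv.trans hv2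
      interval_cases i <;> norm_num
    set φ : MulAut E := Subgroup.normalizerMonoidHom E ⟨m, hNE hmN⟩ with hφ
    have hφ5 : φ ^ 5 = 1 := by
      rw [hφ, ← map_pow]
      have h1 : (⟨m, hNE hmN⟩ : normalizer (E : Set G)) ^ 5 ∈ (Subgroup.normalizerMonoidHom E).ker := by
        rw [Subgroup.normalizerMonoidHom_ker, Subgroup.mem_subgroupOf, mem_centralizer_iff]
        intro a ha
        exact (hcomm _ hm5 a (hEC ha)).symm
      exact h1
    have h1 := Cfsg.Agent.H961.PrimeSection.aut_eq_one Nat.prime_three (by norm_num) hv hcond hφ5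
    intro a ha
    have h2 : (⟨m, hNE hmN⟩ : normalizer (E : Set G)) ∈ (Subgroup.normalizerMonoidHom E).ker := h1
    rw [Subgroup.normalizerMonoidHom_ker, Subgroup.mem_subgroupOf, mem_centralizer_iff] at h2
    exact (h2 a ha).symm
  have hall : ∀ y ∈ C, orderOf y = 3 → centralizer ({y} : Set G) ≤ N := by
    intro y hy hyo
    exact H.le_norm (Or.inl hyo) (mem_centralizer_singleton_iff.1 hy).symm
      (hmE y ⟨hy, by rw [← hyo, pow_orderOf_eq_one]⟩) hm ht ht1
  -- a Sylow 3-subgroup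
  obtain ⟨y, hy⟩ := exists_prime_orderOf_dvd_card' (G := C) 3 h3
  have hyo : orderOf (y : G) = 3 := by rw [Subgroup.orderOf_coe, hy]
  obtain ⟨S, hS⟩ := (IsPGroup.of_card (n := 1) (by rw [Nat.card_zpowers, hyo, pow_one]) :
    IsPGroup 3 (zpowers (y : G))).exists_le_sylow
  have hSne : (S : Subgroup G) ≠ ⊥ := fun h => by
    have h1 := hS (mem_zpowers _)
    rw [h, mem_bot] at h1
    rw [h1, orderOf_one] at hyo
    norm_num at hyo
  obtain ⟨w, hwS, hwo, hwc⟩ := Cfsg.Agent.H58.Cop.exists_center_order S.2 hSne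
  have hwN : w ∈ N := hall y y.2 hyo (mem_centralizer_singleton_iff.2 (hwc y (hS (mem_zpowers _))).symm)
  have hle : C ≤ N := cent_le_norm
  have hCn : (C.subgroupOf N).Normal := ⟨fun c hc g => conj_mem_cent g.2 hc⟩
  have hidx : (C.subgroupOf N).index = e := by
    have h1 := (C.subgroupOf N).card_mul_index
    rw [Nat.card_congr (subgroupOfEquivOfLe hle).toEquiv, hN] at h1
    exact Nat.eq_of_mul_eq_mul_left Nat.card_pos h1
  have hwC : w ∈ C := by
    have h1 : (⟨w, hwN⟩ : N) ^ e ∈ C.subgroupOf N := by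
      rw [← hidx]
      exact (C.subgroupOf N).pow_index_mem _
    have h2 : (⟨w, hwN⟩ : N) ∈ C.subgroupOf N := by
      refine mem_of_pow h1 ?_
      rw [Subgroup.orderOf_mk, hwo]
      exact (Nat.prime_three.coprime_iff_not_dvd).2 he
    exact h2
  have h4 : (S : Subgroup G) ≤ N := fun s hs => hall w hwC hwo (mem_centralizer_singleton_iff.2 (hwc s hs))
  have h5 : 3 ^ 3 ∣ Nat.card C * e := by
    rw [← hN]
    refine Dvd.dvd.trans ?_ (card_dvd_of_le h4)
    rw [Sylow.card_eq_multiplicity]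
    exact pow_dvd_pow 3 ((Nat.prime_three.pow_dvd_iff_le_factorization Nat.card_pos.ne').1 H.s3)
  exact hC3 ((Nat.Coprime.pow_left 3 ((Nat.prime_three.coprime_iff_not_dvd).2 he)).dvd_of_dvd_mul_right h5)

end Hyp

end Cfsg.Agent.H241.Deg
end

-- part: H241/Deg/MonFortyOne
section
/-!
# The Monster: an element of order 41 is self-centralizing (helper241; degrees, row `M`)

`cent_eq` : `|C(x)| = 41` if 41 does not divide the orders of the centralizers of the elements of order 23, 29 and 71.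
-/

set_option autoImplicit false
set_option maxRecDepth 100000

namespace Cfsg.Agent.H241.Deg.Mon

open Subgroup Cfsg Cfsg.Agent.H409 Cfsg.Agent.H940.Eng Cfsg.Agent.H438.Fpr.Mon
open Cfsg.Agent.H199.NSmMon Cfsg.Agent.H199.NSmAbs Cfsg.Agent.BpSpor.MBigModel

theorem hodd {x : MG} (hx : orderOf x = 41) {y : MG} (hy : orderOf y = 3 ∨ orderOf y = 5) (hxy : x * y = y * x) :
    ¬ 2 ∣ Nat.card (centralizer ({y} : Set MG)) := by
  have h41 : 41 ∣ Nat.card (centralizer ({y} : Set MG)) := hx ▸ dvd_of_comm hxy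
  have hev : ¬ Ev y := by
    intro he
    rcases hy with hy | hy
    · rcases three hy he with h | h | h
      · rw [h] at h41
        norm_num at h41
      · rw [h] at h41
        norm_num at h41
      · exact h 41 (by unfold Big; simp) h41
    · rcases five hy he with h | h
      · rw [h] at h41
        norm_num at h41
      · exact h 41 (by unfold Big; simp) h41
  exact odd_cent (fun g hg => hev ⟨g, hg⟩) h41

theorem orderOf_conj' {G : Type*} [Group G] (g y : G) : orderOf (g * y * g⁻¹) = orderOf y := by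
  have := MulEquiv.orderOf_eq (MulAut.conj g) y
  rwa [MulAut.conj_apply] at this

/-- an element of order 3 or 5 of `C(x)` is not conjugate into the centralizer of an involution -/
theorem not_common {x t : MG} (hx : orderOf x = 41) (ht : orderOf t = 2) {g y : MG} (hy : orderOf y = 3 ∨ orderOf y = 5)
    (hyx : y ∈ centralizer ({x} : Set MG)) (hyt : g * y * g⁻¹ ∈ centralizer ({t} : Set MG)) : False := by
  refine hodd hx hy (mem_centralizer_singleton_iff.1 hyx).symm ?_
  rw [mem_centralizer_singleton_iff] at hyt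
  have h1 : (g⁻¹ * t * g) * y = y * (g⁻¹ * t * g) := by
    calc (g⁻¹ * t * g) * y = g⁻¹ * (t * (g * y * g⁻¹)) * g := by group
      _ = g⁻¹ * ((g * y * g⁻¹) * t) * g := by rw [hyt]
      _ = y * (g⁻¹ * t * g) := by group
  have h2 : orderOf (g⁻¹ * t * g) = 2 := by
    have := orderOf_conj' g⁻¹ t
    rw [inv_inv] at this
    rw [this, ht]
  rw [← h2]
  exact dvd_of_comm h1

theorem not_three_pow {x : MG} (hx : orderOf x = 41) : ¬ 3 ^ 8 ∣ Nat.card (centralizer ({x} : Set MG)) := by
  have := finite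
  intro h
  obtain ⟨t, ht, hta⟩ := exists_ta
  obtain ⟨g, y, hy, hyx, hyt⟩ := exists_common (p := 3) (n := 20) (a := 8) (b := 13) Nat.prime_three
    (by rw [card_M]; norm_num) h (T := centralizer ({t} : Set MG)) (by rw [card_cent_t hta]; norm_num) (by norm_num)
  exact not_common hx ht (Or.inl hy) hyx hyt

theorem not_five_pow {x : MG} (hx : orderOf x = 41) : ¬ 5 ^ 4 ∣ Nat.card (centralizer ({x} : Set MG)) := by
  have := finite
  intro h
  obtain ⟨t, ht, hta⟩ := exists_ta
  obtain ⟨g, y, hy, hyx, hyt⟩ := exists_common (p := 5) (n := 9) (a := 4) (b := 6) Nat.prime_five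
    (by rw [card_M]; norm_num) h (T := centralizer ({t} : Set MG)) (by rw [card_cent_t hta]; norm_num) (by norm_num)
  exact not_common hx ht (Or.inr hy) hyx hyt

theorem not_prime {q : ℕ} (hq : q.Prime) (h : ∀ y : MG, orderOf y = q → ¬ 41 ∣ Nat.card (centralizer ({y} : Set MG)))
    {x : MG} (hx : orderOf x = 41) : ¬ q ∣ Nat.card (centralizer ({x} : Set MG)) := by
  have := finite
  have hqf := Fact.mk hq
  intro hd
  obtain ⟨v, hv⟩ := exists_prime_orderOf_dvd_card' q hd
  refine h (v : MG) (by rw [Subgroup.orderOf_coe, hv]) ?_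
  rw [← hx]
  exact dvd_of_comm (mem_centralizer_singleton_iff.1 v.2).symm

/-- **The order of the centralizer.** -/
theorem cent_dvd (B : Base) (h23 : ∀ y : MG, orderOf y = 23 → ¬ 41 ∣ Nat.card (centralizer ({y} : Set MG)))
    (h29 : ∀ y : MG, orderOf y = 29 → ¬ 41 ∣ Nat.card (centralizer ({y} : Set MG)))
    (h71 : ∀ y : MG, orderOf y = 71 → ¬ 41 ∣ Nat.card (centralizer ({y} : Set MG))) {x : MG} (hx : orderOf x = 41) :
    ∃ a < 8, ∃ b < 4, Nat.card (centralizer ({x} : Set MG)) = 3 ^ a * 5 ^ b * 41 := by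
  have := finite
  set c := Nat.card (centralizer ({x} : Set MG)) with hc
  have cop : ∀ {q k : ℕ}, q.Prime → ¬ q ∣ c → Nat.Coprime c (q ^ k) := fun {q k} hq h =>
    ((Nat.Coprime.pow_left k ((Nat.Prime.coprime_iff_not_dvd hq).2 h))).symm
  have h1 : c ∣ 11 ^ 2 * (23 ^ 1 * (29 ^ 1 * (71 ^ 1 * (3 ^ 19 * 5 ^ 9 * 41)))) := by
    refine (cent_41 B hx).trans ?_
    norm_num
  have h2 := (cop (k := 2) (q := 11) (by norm_num) (not_prime (by norm_num)
    (fun y hy => Cfsg.Agent.H199.AbMon.eleven_not_dvd (by simp) hy) hx)).dvd_of_dvd_mul_left h1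
  have h3 := (cop (k := 1) (q := 23) (by norm_num) (not_prime (by norm_num) h23 hx)).dvd_of_dvd_mul_left h2
  have h4 := (cop (k := 1) (q := 29) (by norm_num) (not_prime (by norm_num) h29 hx)).dvd_of_dvd_mul_left h3
  have h5 := (cop (k := 1) (q := 71) (by norm_num) (not_prime (by norm_num) h71 hx)).dvd_of_dvd_mul_left h4
  obtain ⟨u, d, hu, hd, hud⟩ := Nat.dvd_mul.1 h5
  obtain ⟨s, r, hs, hr, hsr⟩ := Nat.dvd_mul.1 hu
  obtain ⟨a, ha, rfl⟩ := (Nat.dvd_prime_pow Nat.prime_three).1 hs
  obtain ⟨b, hb, rfl⟩ := (Nat.dvd_prime_pow Nat.prime_five).1 hr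
  have hd41 : d = 41 := by
    rcases (Nat.dvd_prime (by norm_num)).1 hd with h6 | h6
    · exfalso
      have h7 : 41 ∣ c := by
        rw [hc, ← hx]
        exact dvd_of_comm rfl
      rw [← hud, h6, mul_one, ← hsr] at h7
      rcases (Nat.Prime.dvd_mul (by norm_num)).1 h7 with h8 | h8
      · have := Nat.Prime.dvd_of_dvd_pow (by norm_num) h8
        norm_num at this
      · have := Nat.Prime.dvd_of_dvd_pow (by norm_num) h8
        norm_num at this
    · exact h6
  rw [← hsr, hd41] at hud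
  refine ⟨a, ?_, b, ?_, hud.symm⟩
  · by_contra hcon
    apply not_three_pow hx
    rw [← hc, ← hud]
    exact ((pow_dvd_pow 3 (by omega : 8 ≤ a)).trans (dvd_mul_right _ _)).trans (dvd_mul_right _ _)
  · by_contra hcon
    apply not_five_pow hx
    rw [← hc, ← hud]
    exact ((pow_dvd_pow 5 (by omega : 4 ≤ b)).trans (dvd_mul_left _ _)).trans (dvd_mul_right _ _)

/-- the arithmetic -/
theorem chk : ∀ a : Fin 8, ∀ b : Fin 4, ∀ e ∈ ([2, 4, 5, 8, 10, 20, 40] : List ℕ),
    808017424794512875886459904961710757005754368000000000 / (3 ^ a.val * 5 ^ b.val * 41 * e) % 41 = 1 →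
      (a.val = 0 ∧ b.val = 0 ∧ e = 40) ∨ (a.val = 0 ∧ b.val = 1 ∧ e = 8) ∨ (a.val = 0 ∧ b.val = 3 ∧ e = 20) ∨
        (a.val = 2 ∧ b.val = 1 ∧ e = 10) ∨ (a.val = 2 ∧ b.val = 2 ∧ e = 2) := by decide +kernel

theorem mem_list : ∀ e < 41, e ∣ 40 → e ≠ 1 → e ∈ ([2, 4, 5, 8, 10, 20, 40] : List ℕ) := by decide +kernel

/-- 41 acts trivially on the groups of prime power order dividing `|M|`, except for 2 and 3 -/
theorem hcond : ∀ q : ℕ, q.Prime → q ≠ 2 → q ≠ 3 → q ≠ 41 → ∀ i, 1 ≤ i → q ^ i ∣ Nat.card MG → ¬ 41 ∣ q ^ i - 1 := by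
  intro p hp hp2 hp3 hp41 i hi hd
  rw [card_M] at hd
  have hm : p ∈ ([2, 3, 5, 7, 11, 13, 17, 19, 23, 29, 31, 41, 47, 59, 71] : List ℕ) := by
    have hd' := (dvd_pow_self p (by omega)).trans hd
    have e : (808017424794512875886459904961710757005754368000000000 : ℕ) = 2 ^ 46 * 3 ^ 20 * 5 ^ 9 * 7 ^ 6 * 11 ^ 2 * 13 ^ 3 *
      17 * 19 * 23 * 29 * 31 * 41 * 47 * 59 * 71 := by norm_num
    rw [e] at hd'
    have key : ∀ {q : ℕ}, q.Prime → p ∣ q → p = q := fun hq h => (Nat.prime_dvd_prime_iff_eq hp hq).1 h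
    have keyp : ∀ {q n : ℕ}, q.Prime → p ∣ q ^ n → p = q := fun hq h => key hq (hp.dvd_of_dvd_pow h)
    simp only [List.mem_cons, List.not_mem_nil, or_false]
    rcases hp.dvd_mul.1 hd' with hd' | h
    swap; · have := key (by norm_num) h; omega
    rcases hp.dvd_mul.1 hd' with hd' | h
    swap; · have := key (by norm_num) h; omega
    rcases hp.dvd_mul.1 hd' with hd' | h
    swap; · have := key (by norm_num) h; omega
    rcases hp.dvd_mul.1 hd' with hd' | h
    swap; · have := key (by norm_num) h; omega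
    rcases hp.dvd_mul.1 hd' with hd' | h
    swap; · have := key (by norm_num) h; omega
    rcases hp.dvd_mul.1 hd' with hd' | h
    swap; · have := key (by norm_num) h; omega
    rcases hp.dvd_mul.1 hd' with hd' | h
    swap; · have := key (by norm_num) h; omega
    rcases hp.dvd_mul.1 hd' with hd' | h
    swap; · have := key (by norm_num) h; omega
    rcases hp.dvd_mul.1 hd' with hd' | h
    swap; · have := key (by norm_num) h; omega
    rcases hp.dvd_mul.1 hd' with hd' | h
    swap; · have := keyp (by norm_num) h; omega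
    rcases hp.dvd_mul.1 hd' with hd' | h
    swap; · have := keyp (by norm_num) h; omega
    rcases hp.dvd_mul.1 hd' with hd' | h
    swap; · have := keyp (by norm_num) h; omega
    rcases hp.dvd_mul.1 hd' with hd' | h
    swap; · have := keyp (by norm_num) h; omega
    rcases hp.dvd_mul.1 hd' with hd' | h
    swap; · have := keyp (by norm_num) h; omega
    have := keyp (by norm_num) hd'; omega
  simp only [List.mem_cons, List.not_mem_nil, or_false] at hm
  have key : ∀ m, ¬ p ^ (m + 1) ∣ 808017424794512875886459904961710757005754368000000000 →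
      Cfsg.Agent.H995.CopEngine.condB 41 p m = true → ¬ 41 ∣ p ^ i - 1 := fun m h1 h2 =>
    Cfsg.Agent.H995.CopEngine.cond_of_chk hp h1 h2 i hi hd
  rcases hm with rfl | rfl | rfl | rfl | rfl | rfl | rfl | rfl | rfl | rfl | rfl | rfl | rfl | rfl | rfl
  · exact absurd rfl hp2
  · exact absurd rfl hp3
  · exact key 9 (by norm_num) (by decide +kernel)
  · exact key 6 (by norm_num) (by decide +kernel)
  · exact key 2 (by norm_num) (by decide +kernel)
  · exact key 3 (by norm_num) (by decide +kernel)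
  · exact key 1 (by norm_num) (by decide +kernel)
  · exact key 1 (by norm_num) (by decide +kernel)
  · exact key 1 (by norm_num) (by decide +kernel)
  · exact key 1 (by norm_num) (by decide +kernel)
  · exact key 1 (by norm_num) (by decide +kernel)
  · exact absurd rfl hp41
  · exact key 1 (by norm_num) (by decide +kernel)
  · exact key 1 (by norm_num) (by decide +kernel)
  · exact key 1 (by norm_num) (by decide +kernel)

/-- **An element of order 41 of the Monster is self-centralizing.** -/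
theorem cent_eq (B : Base) (h23 : ∀ y : MG, orderOf y = 23 → ¬ 41 ∣ Nat.card (centralizer ({y} : Set MG)))
    (h29 : ∀ y : MG, orderOf y = 29 → ¬ 41 ∣ Nat.card (centralizer ({y} : Set MG)))
    (h71 : ∀ y : MG, orderOf y = 71 → ¬ 41 ∣ Nat.card (centralizer ({y} : Set MG))) {x : MG} (hx : orderOf x = 41) :
    Nat.card (centralizer ({x} : Set MG)) = 41 := by
  have := finite
  have := simple
  have H : Hyp x :=
    { hx := hx
      h41 := by rw [card_M]; norm_num
      h3 := by rw [card_M]; norm_num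
      s3 := by rw [card_M]; norm_num
      s5 := by rw [card_M]; norm_num
      hc := hcond
      hodd := fun y hy hxy => hodd hx hy hxy }
  obtain ⟨a, ha, b, hb, hc⟩ := cent_dvd B h23 h29 h71 hx
  obtain ⟨e, he, he1, hN, -, hmod⟩ := Cfsg.Agent.H58.Cop.arith (by norm_num) hx H.h41 (by rw [card_M]; norm_num)
  rw [card_M, hc] at hmod
  have hlist := mem_list e (Nat.lt_succ_of_le (Nat.le_of_dvd (by norm_num) he)) he he1
  have h2 : 2 ∣ e ∨ e = 5 := by
    simp only [List.mem_cons, List.not_mem_nil, or_false] at hlist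
    rcases hlist with rfl | rfl | rfl | rfl | rfl | rfl | rfl <;> norm_num
  have key : ∀ (h2e : 2 ∣ e), ∀ c ∈ centralizer ({x} : Set MG), ∀ d ∈ centralizer ({x} : Set MG), c * d = d * c :=
    fun h2e => H.comm (a := a) (b := b) (dvd_of_eq hc) (by rw [hN]; exact h2e.mul_left _)
  rcases chk ⟨a, ha⟩ ⟨b, hb⟩ e hlist hmod with ⟨h3, h4, h5⟩ | ⟨h3, h4, h5⟩ | ⟨h3, h4, h5⟩ | ⟨h3, h4, h5⟩ | ⟨h3, h4, h5⟩
  · change a = 0 at h3
    change b = 0 at h4
    rw [hc, h3, h4]
    norm_num
  · exfalso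
    change a = 0 at h3
    change b = 1 at h4
    subst h3 h4 h5
    have h6 := H.five_dvd_e (key (by norm_num)) (by rw [hN, hc]; norm_num) (b := 1) one_ne_zero (by rw [hc]; norm_num)
      (by rw [hc]; norm_num) hN
    norm_num at h6
  · exfalso
    change a = 0 at h3
    change b = 3 at h4
    subst h3 h4 h5
    exact H.not_cube (key (by norm_num)) (by rw [hN, hc]; norm_num) (by rw [hc]; norm_num) (by rw [hc]; norm_num)
  · exfalso
    change a = 2 at h3
    change b = 1 at h4
    subst h3 h4 h5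
    exact H.not_nine (key (by norm_num)) (by rw [hN, hc]; norm_num) (b := 1) one_ne_zero (by rw [hc]; norm_num)
      (by rw [hc]; norm_num) hN (by norm_num) (by rw [hc]; norm_num) (by rw [hc]; norm_num)
  · exfalso
    change a = 2 at h3
    change b = 2 at h4
    subst h3 h4 h5
    have h6 := H.five_dvd_e (key (by norm_num)) (by rw [hN, hc]; norm_num) (b := 2) two_ne_zero (by rw [hc]; norm_num)
      (by rw [hc]; norm_num) hN
    norm_num at h6

end Cfsg.Agent.H241.Deg.Mon
end

-- part: H241/Deg/MonFinal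
section
/-!
# The Monster: `|C(x)| = 41` and `|N(⟨x⟩)| = 41 · 40` for `x` of order 41 (helper241; degrees, row `M`)
-/

set_option autoImplicit false

namespace Cfsg.Agent.H241.Deg.Mon

open Subgroup Cfsg Cfsg.Agent.H409 Cfsg.Agent.H940.Eng Cfsg.Agent.BpSpor.MBigModel

theorem h23 (B : Base) {p : ℕ} (hp : ¬ p ∣ 552) (y : MG) (hy : orderOf y = 23) :
    ¬ p ∣ Nat.card (centralizer ({y} : Set MG)) := by
  rw [Cfsg.Agent.H715.Mon.Exact.card23 (Cfsg.Agent.H715.Mon.Grp.sThree B) hy]
  exact hp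

theorem h29 {p : ℕ} (hp : ¬ p ∣ 87) (y : MG) (hy : orderOf y = 29) : ¬ p ∣ Nat.card (centralizer ({y} : Set MG)) := by
  rw [Cfsg.Agent.H626.LD.TwentyNine.card_cent hy]
  exact hp

theorem norm71 (B : Base) {y : MG} (hy : orderOf y = 71) : Nat.card (centralizer ({y} : Set MG)) = 71 ∧
      Nat.card (normalizer ((zpowers y : Subgroup MG) : Set MG)) = 71 * 35 :=
  Cfsg.Agent.H58.Mon71.norm71 (Cfsg.Agent.H438.Fpr.Mon.allKnown B) (h23 B (by norm_num)) (h29 (by norm_num)) hy

/-- **Elements of order 41 of the Monster.** -/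
theorem card41 (B : Base) {x : MG} (hx : orderOf x = 41) : Nat.card (centralizer ({x} : Set MG)) = 41 := by
  refine cent_eq B (h23 B (by norm_num)) (h29 (by norm_num)) (fun y hy => ?_) hx
  rw [(norm71 B hy).1]
  norm_num

/-- the same in any Monster -/
theorem M.cent41 (B : Base) {S : Type*} [Group S] (h : Spor.IsoM S) {x : S} (hx : orderOf x = 41) :
    Nat.card (centralizer ({x} : Set S)) = 41 :=
  Cfsg.Agent.H715.Mon.Exact.transport h (fun _ hy => card41 B hy) hx

end Cfsg.Agent.H241.Deg.Mon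
end
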